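import Mathlib
import Cfsg.Agent.Lib.FischerMTypes90.Bases
import Cfsg.Agent.Lib.FischerMTypes83.FixSix

/-!
Charts: bijections of perp sets with the transpositions of a group of type M(22); the line
property of sixes.
-/

set_option autoImplicit false
set_option linter.style.haveILetI false
set_option linter.unusedSectionVars false

namespace Cfsg.Agent.Lib.FischerM23C90

open Cfsg.Agent.Lib.FischerMTypes.Basic Cfsg.Agent.Lib.FischerMTypes.Primitive
  Cfsg.Agent.Lib.FischerMTypes.Aut22 Cfsg.Agent.Lib.FischerMTypes.Syl22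
  Cfsg.Agent.Lib.FischerMTypes.PointModel
open Cfsg.Agent.Lib.FischerMTypes.TraceCounts (Sys)
open Cfsg.Agent.Lib.Unitary (herm_smul_left herm_add_left)
open Cfsg.Agent.Lib.UnitaryFour.Transvection

variable {G : Type*} [Group G] [Finite G] {D : Set G}
variable {Q : Type*} [Group Q] [Finite Q] {E : Set Q}
variable {F : Type} [Field F] [Fintype F]

/-- the neighbours of `a` indexed by the transpositions of a group of type M(22) -/
structure Chart (D : Set G) (E : Set Q) (a : G) (l : Q → G) : Prop where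
  mem : ∀ e ∈ E, l e ∈ perp D a
  surj : ∀ x ∈ perp D a, ∃ e ∈ E, l e = x
  inj : ∀ e ∈ E, ∀ f ∈ E, l e = l f → e = f
  comm : ∀ e ∈ E, ∀ f ∈ E, (Commute (l e) (l f) ↔ Commute e f)
  braid : ∀ e ∈ E, ∀ f ∈ E, ¬ Commute e f → (l e * l f) ^ 3 = 1
  six_prod : ∀ e f g : Q, Tri E e f g → ∀ m : List Q, m.Nodup → (∀ x, x ∈ m ↔ x ∈ six E e f g) → (m.map l).prod = a

variable (S : Sys E F)

local notation "h⟪" u ", " v "⟫" => Cfsg.hermForm 6 F 2 u v

include S in
/-- a transposition commuting with one member of a six commutes with a further one of the line -/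
theorem line_meet {a p q y : Q} (h : Tri E a p q) (hy : y ∈ perp E a) (hp : ¬ Commute y p) (hq : ¬ Commute y q) :
    ∃ x ∈ six E a p q, x ≠ a ∧ x ≠ p ∧ x ≠ q ∧ Commute y x := by
  classical
  have ha := h.ma
  obtain ⟨u, hu, hu0, rfl⟩ := (S.ctx a ha).exists_pt (y := p) h.perp_b
  obtain ⟨v, hv, hv0, rfl⟩ := (S.ctx a ha).exists_pt (y := q) h.perp_c
  obtain ⟨w, hw, hw0, rfl⟩ := (S.ctx a ha).exists_pt (y := y) hy
  set C := S.ctx a ha
  have huw : h⟪u, w⟫ ≠ 0 := fun e => hp ((C.pt_comm hu hu0 hw hw0).mpr e).symm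
  have hvw : h⟪v, w⟫ ≠ 0 := fun e => hq ((C.pt_comm hv hv0 hw hw0).mpr e).symm
  set T := six E a (C.pt u) (C.pt v) \ {a, C.pt u, C.pt v}
  have hT : ∀ x ∈ T, ∃ c : F, c ≠ 0 ∧ h⟪u + c • v, u + c • v⟫ = 0 ∧ u + c • v ≠ 0 ∧ C.pt (u + c • v) = x := by
    rintro x ⟨hx, hne⟩
    simp only [Set.mem_insert_iff, Set.mem_singleton_iff, not_or] at hne
    exact FischerMTypes83.six_line S ha hu hu0 hv hv0 h hx hne.1 hne.2.1 hne.2.2
  choose! c hc using hT
  have hTc : T.ncard = 3 := by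
    have hsub : ({a, C.pt u, C.pt v} : Set Q) ⊆ six E a (C.pt u) (C.pt v) := by
      rintro y (rfl | rfl | rfl)
      exacts [h.mem_six (Or.inl rfl), h.mem_six (Or.inr (Or.inl rfl)), h.mem_six (Or.inr (Or.inr rfl))]
    have := Set.ncard_sdiff_add_ncard_of_subset hsub (Set.toFinite _)
    rw [ncard_six S h, Set.ncard_eq_three.mpr ⟨_, _, _, h.nab, h.nac, h.nbc, rfl⟩] at this
    show (six E a (C.pt u) (C.pt v) \ {a, C.pt u, C.pt v}).ncard = 3
    omega
  have himg : c '' T = {k : F | k ≠ 0} := by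
    refine Set.eq_of_subset_of_ncard_le (by rintro _ ⟨x, hx, rfl⟩; exact (hc x hx).1) ?_ (Set.toFinite _)
    rw [Set.InjOn.ncard_image (fun x hx x' hx' e => by rw [← (hc x hx).2.2.2, e, (hc x' hx').2.2.2]), hTc,
      ← Nat.card_coe_set_eq, Nat.card_eq_fintype_card]
    show Fintype.card {k : F // k ≠ 0} ≤ 3
    rw [Fintype.card_subtype_compl, C.hF, Fintype.card_subtype_eq]
    norm_num
  have hk : (-(h⟪u, w⟫ / h⟪v, w⟫) : F) ∈ c '' T := by
    rw [himg]
    exact neg_ne_zero.mpr (div_ne_zero huw hvw)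
  obtain ⟨x, hx, hxc⟩ := hk
  obtain ⟨-, hiso, hne, hpt⟩ := hc x hx
  have hx2 := hx.2
  simp only [Set.mem_insert_iff, Set.mem_singleton_iff, not_or] at hx2
  refine ⟨x, hx.1, hx2.1, hx2.2.1, hx2.2.2, ?_⟩
  rw [← hpt]
  refine ((C.pt_comm hiso hne hw hw0).mpr ?_).symm
  rw [hxc, herm_add_left, herm_smul_left]
  field_simp
  ring

include S in
/-- two members of the line force all of it -/
theorem line_all {a p q x x' y : Q} (h : Tri E a p q) (hx : x ∈ six E a p q) (hx' : x' ∈ six E a p q)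
    (nxa : x ≠ a) (nxa' : x' ≠ a) (hne : x ≠ x') (hy : y ∈ E) (ca : Commute y a) (cx : Commute y x)
    (cx' : Commute y x') : ∀ t ∈ six E a p q, Commute y t := by
  intro t ht
  rw [← six_eq S h (h.mem_six (Or.inl rfl)) hx hx' (Ne.symm nxa) (Ne.symm nxa') hne] at ht
  exact (ht.2 y ⟨hy, ca.symm, cx.symm, cx'.symm⟩).symm

end Cfsg.Agent.Lib.FischerM23C90
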