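import Mathlib
import Cfsg.Agent.Lib.FischerM23C90.Charts

/-!
Where all perp sets are charted by a group of type M(22), a neighbour of a member at distance two
is again at distance at most two: seven members of a base meet every six.
-/

set_option autoImplicit false
set_option linter.style.haveILetI false
set_option linter.unusedSectionVars false

namespace Cfsg.Agent.Lib.FischerM23C90

open Cfsg.Agent.Lib.FischerMTypes.Basic Cfsg.Agent.Lib.FischerMTypes.Primitive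
  Cfsg.Agent.Lib.FischerMTypes.Aut22 Cfsg.Agent.Lib.FischerMTypes.Syl22
open Cfsg.Agent.Lib.FischerMTypes.TraceCounts (Sys)
open Cfsg.Agent.Lib.FischerMTypes.TraceSize (ncard_trace ncard_meet mem_near)

section Blocks

open Cfsg.Agent.Lib.FischerMTypes.Aut22.TripleSystem

variable {α : Type*} [Fintype α] [DecidableEq α] {𝓑 : Finset (Finset α)}

/-- a set meeting each block in none, one or three points, with two points, meets all blocks -/
theorem meet_all (T : TripleSystem 𝓑) (P : Finset α) (h2 : 2 ≤ P.card)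
    (h3 : ∀ B ∈ 𝓑, 2 ≤ (B ∩ P).card → (B ∩ P).card = 3) : ∀ B ∈ 𝓑, (B ∩ P).Nonempty := by
  have h7 : P.card = 7 := by
    obtain ⟨p, hp, q, hq, hpq⟩ := Finset.one_lt_card.mp h2
    set R := (P.erase p).erase q
    set W := 𝓑.filter fun B => p ∈ B ∧ q ∈ B
    have hone : ∀ r ∈ R, (W.filter fun B => r ∈ B).card = 1 := by
      intro r hr
      simp only [R, Finset.mem_erase] at hr
      obtain ⟨B, hB, h1, h2', h3'⟩ := T.cover p q r hpq (Ne.symm hr.2.1) (Ne.symm hr.1)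
      rw [Finset.card_eq_one]
      refine ⟨B, Finset.eq_singleton_iff_unique_mem.mpr ⟨by simp [W, hB, h1, h2', h3'], fun C hC => ?_⟩⟩
      simp only [W, Finset.mem_filter] at hC
      exact T.unique C hC.1.1 B hB p q r hpq (Ne.symm hr.2.1) (Ne.symm hr.1) hC.1.2.1 hC.1.2.2 hC.2 h1 h2' h3'
    have hrow : ∀ B ∈ W, (R.filter fun r => r ∈ B).card = 1 := by
      intro B hB
      simp only [W, Finset.mem_filter] at hB
      have hset : (R.filter fun r => r ∈ B) = ((B ∩ P).erase p).erase q := by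
        ext r; simp [R]; tauto
      have hc : 2 ≤ (B ∩ P).card := Finset.one_lt_card.mpr
        ⟨p, by simp [hB.2.1, hp], q, by simp [hB.2.2, hq], hpq⟩
      rw [hset, Finset.card_erase_of_mem (by simp [Ne.symm hpq, hB.2.2, hq]),
        Finset.card_erase_of_mem (by simp [hB.2.1, hp]), h3 B hB.1 hc]
    have e := Finset.sum_card_bipartiteAbove_eq_sum_card_bipartiteBelow
      (fun r B => r ∈ B) (s := R) (t := W)
    simp only [Finset.bipartiteAbove, Finset.bipartiteBelow] at e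
    rw [Finset.sum_congr rfl hone, Finset.sum_congr rfl hrow, Finset.sum_const, Finset.sum_const,
      smul_eq_mul, smul_eq_mul, mul_one, mul_one, T.pair_five hpq] at e
    have := Finset.card_erase_of_mem (s := P.erase p) (a := q) (Finset.mem_erase.mpr ⟨Ne.symm hpq, hq⟩)
    have := Finset.card_erase_of_mem (s := P) (a := p) hp
    simp only [R] at e
    omega
  have h77 : 𝓑.card = 77 := by
    have e := Finset.sum_card_bipartiteAbove_eq_sum_card_bipartiteBelow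
      (fun (r : α) B => r ∈ B) (s := Finset.univ) (t := 𝓑)
    simp only [Finset.bipartiteAbove, Finset.bipartiteBelow] at e
    rw [Finset.sum_congr rfl (fun r _ => T.point_count r), Finset.sum_const, Finset.card_univ, T.card,
      Finset.sum_congr rfl (fun B hB => show (Finset.univ.filter fun r => r ∈ B).card = 6 by
        rw [Finset.filter_univ_mem]; exact T.size B hB), Finset.sum_const, smul_eq_mul, smul_eq_mul] at e
    omega
  have hsum : ∑ B ∈ 𝓑, (B ∩ P).card = 147 := by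
    have e := Finset.sum_card_bipartiteAbove_eq_sum_card_bipartiteBelow
      (fun (r : α) B => r ∈ B) (s := P) (t := 𝓑)
    simp only [Finset.bipartiteAbove, Finset.bipartiteBelow] at e
    rw [Finset.sum_congr rfl (fun r _ => T.point_count r), Finset.sum_const, h7, smul_eq_mul] at e
    calc ∑ B ∈ 𝓑, (B ∩ P).card = ∑ B ∈ 𝓑, (P.filter fun r => r ∈ B).card :=
        Finset.sum_congr rfl fun B _ => by rw [Finset.filter_mem_eq_inter, Finset.inter_comm]
      _ = 147 := by rw [← e]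
  have hpairs : ∑ B ∈ 𝓑, (B ∩ P).offDiag.card = 210 := by
    have e := Finset.sum_card_bipartiteAbove_eq_sum_card_bipartiteBelow
      (fun (r : α × α) B => r.1 ∈ B ∧ r.2 ∈ B) (s := P.offDiag) (t := 𝓑)
    simp only [Finset.bipartiteAbove, Finset.bipartiteBelow] at e
    rw [Finset.sum_congr rfl (fun r hr => T.pair_five (Finset.mem_offDiag.mp hr).2.2), Finset.sum_const,
      Finset.offDiag_card, h7, smul_eq_mul] at e
    calc ∑ B ∈ 𝓑, (B ∩ P).offDiag.card = ∑ B ∈ 𝓑, (P.offDiag.filter fun r => r.1 ∈ B ∧ r.2 ∈ B).card :=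
        Finset.sum_congr rfl fun B _ => congrArg Finset.card (by ext r; simp; tauto)
      _ = 210 := by rw [← e]
  intro B₀ hB₀
  rw [← Finset.card_pos]
  by_contra h0
  have hval : ∀ B ∈ 𝓑, 3 * (if (B ∩ P).card = 0 then 0 else 1) + (B ∩ P).offDiag.card = 3 * (B ∩ P).card := by
    intro B hB
    rw [Finset.offDiag_card]
    by_cases hc : 2 ≤ (B ∩ P).card
    · rw [h3 B hB hc]; norm_num
    · have : (B ∩ P).card = 0 ∨ (B ∩ P).card = 1 := by omega
      rcases this with hh | hh <;> rw [hh] <;> norm_num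
  have e := Finset.sum_congr rfl hval
  rw [Finset.sum_add_distrib, ← Finset.mul_sum, ← Finset.mul_sum, hsum, hpairs] at e
  have hlt : ∑ B ∈ 𝓑, (if (B ∩ P).card = 0 then 0 else 1 : ℕ) < ∑ B ∈ 𝓑, 1 := by
    refine Finset.sum_lt_sum (fun B _ => by split_ifs <;> simp) ⟨B₀, hB₀, ?_⟩
    rw [if_pos (by omega)]
    exact one_pos
  rw [Finset.sum_const, smul_eq_mul, mul_one, h77] at hlt
  omega

end Blocks

variable {G : Type*} [Group G] [Finite G] {D : Set G}
variable {Q : Type*} [Group Q] [Finite Q] {E : Set Q}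
variable {F : Type} [Field F] [Fintype F]
variable (S : Sys E F) (hch : ∀ a ∈ D, ∃ l, Chart D E a l)

/-- the members commuting with four given ones and with all that do so -/
def core (D : Set G) (b p q r : G) : Set G :=
  {y | y ∈ D ∧ Commute y b ∧ Commute y p ∧ Commute y q ∧ Commute y r ∧
    ∀ w ∈ D, Commute w b → Commute w p → Commute w q → Commute w r → Commute y w}

theorem core_perm (b p q r : G) : core D p q b r = core D b p q r := by
  ext y
  simp only [core, Set.mem_ofPred_eq]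
  constructor <;> rintro ⟨h1, h2, h3, h4, h5, h6⟩
  · exact ⟨h1, h4, h2, h3, h5, fun w hw a1 a2 a3 a4 => h6 w hw a2 a3 a1 a4⟩
  · exact ⟨h1, h3, h4, h2, h5, fun w hw a1 a2 a3 a4 => h6 w hw a3 a1 a2 a4⟩

theorem Chart.core_iff {a : G} (ha : a ∈ D) {l : Q → G} (c : Chart D E a l) {e f g : Q} (h : Tri E e f g) {y : G} :
    y ∈ core D a (l e) (l f) (l g) ↔ y = a ∨ ∃ s ∈ six E e f g, l s = y := by
  have hcomm : ∀ {u}, u ∈ E → Commute a (l u) := fun hu => (c.mem _ hu).2.2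
  have hmem : ∀ {w}, w ∈ D → Commute w a → w ≠ a → ∃ t ∈ E, l t = w :=
    fun hw hwa hne => c.surj _ ⟨hw, hne, hwa.symm⟩
  constructor
  · rintro ⟨hy, h1, h2, h3, h4, h5⟩
    by_cases hya : y = a
    · exact Or.inl hya
    obtain ⟨s, hs, rfl⟩ := hmem hy h1 hya
    refine Or.inr ⟨s, ⟨⟨hs, ((c.comm s hs e h.ma).mp h2).symm, ((c.comm s hs f h.mb).mp h3).symm,
      ((c.comm s hs g h.mc).mp h4).symm⟩, fun t ht => ?_⟩, rfl⟩
    exact (c.comm s hs t ht.1).mp (h5 _ (c.mem t ht.1).1 (hcomm ht.1).symm ((c.comm e h.ma t ht.1).mpr ht.2.1).symm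
      ((c.comm f h.mb t ht.1).mpr ht.2.2.1).symm ((c.comm g h.mc t ht.1).mpr ht.2.2.2).symm)
  · rintro (rfl | ⟨s, hs, rfl⟩)
    · exact ⟨ha, Commute.refl _, hcomm h.ma, hcomm h.mb, hcomm h.mc, fun w _ h1 _ _ _ => h1.symm⟩
    · obtain ⟨⟨hsE, s1, s2, s3⟩, hall⟩ := hs
      refine ⟨(c.mem s hsE).1, (hcomm hsE).symm, ((c.comm e h.ma s hsE).mpr s1).symm,
        ((c.comm f h.mb s hsE).mpr s2).symm, ((c.comm g h.mc s hsE).mpr s3).symm, fun w hw h1 h2 h3 h4 => ?_⟩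
      by_cases hwa : w = a
      · rw [hwa]; exact (hcomm hsE).symm
      obtain ⟨t, ht, rfl⟩ := hmem hw h1 hwa
      exact (c.comm s hsE t ht).mpr (hall t ⟨ht, ((c.comm t ht e h.ma).mp h2).symm, ((c.comm t ht f h.mb).mp h3).symm,
        ((c.comm t ht g h.mc).mp h4).symm⟩)

include S hch in
/-- a six with two members joined to `d` and one not has exactly one further such member -/
theorem third {b d : G} (hb : b ∈ D) (hd : d ∈ D) (hdb : ¬ Commute d b) {l : Q → G} (c : Chart D E b l)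
    {p q r : Q} (h : Tri E p q r) (hp : Commute d (l p)) (hq : Commute d (l q)) (hr : ¬ Commute d (l r)) :
    ∃ s ∈ six E p q r, s ≠ p ∧ s ≠ q ∧ Commute d (l s) ∧
      ∀ t ∈ six E p q r, t ≠ p → t ≠ q → Commute d (l t) → t = s := by
  have hP := (c.mem p h.ma)
  obtain ⟨m, cm⟩ := hch _ hP.1
  have hbl : ∀ {u}, u ∈ E → l u ≠ b := fun hu => (c.mem _ hu).2.1
  have hdl : ∀ {u}, u ∈ E → d ≠ l u := fun {u} hu e => hdb (e ▸ (c.mem u hu).2.2.symm)
  obtain ⟨β, hβ, eβ⟩ := cm.surj b ⟨hb, (hbl h.ma).symm, hP.2.2.symm⟩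
  obtain ⟨χ, hχ, eχ⟩ := cm.surj (l q) ⟨(c.mem q h.mb).1, fun e => h.nab (c.inj q h.mb p h.ma e).symm,
    (c.comm p h.ma q h.mb).mpr h.cab⟩
  obtain ⟨ρ, hρ, eρ⟩ := cm.surj (l r) ⟨(c.mem r h.mc).1, fun e => h.nac (c.inj r h.mc p h.ma e).symm,
    (c.comm p h.ma r h.mc).mpr h.cac⟩
  obtain ⟨δ, hδ, eδ⟩ := cm.surj d ⟨hd, hdl h.ma, hp.symm⟩
  have htri : Tri E χ β ρ := by
    refine ⟨hχ, hβ, hρ, fun e => hbl h.mb ?_, fun e => h.nbc (c.inj q h.mb r h.mc ?_),
      fun e => hbl h.mc ?_, (cm.comm χ hχ β hβ).mp ?_, (cm.comm χ hχ ρ hρ).mp ?_, (cm.comm β hβ ρ hρ).mp ?_⟩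
    · rw [← eχ, e, eβ]
    · rw [← eχ, e, eρ]
    · rw [← eρ, ← e, eβ]
    · rw [eχ, eβ]; exact (c.mem q h.mb).2.2.symm
    · rw [eχ, eρ]; exact (c.comm q h.mb r h.mc).mpr h.cbc
    · rw [eβ, eρ]; exact (c.mem r h.mc).2.2
  have hδχ : δ ∈ perp E χ := ⟨hδ, fun e => hdl h.mb (by rw [← eδ, e, eχ]),
    (cm.comm χ hχ δ hδ).mp (by rw [eχ, eδ]; exact hq.symm)⟩
  have hδβ : ¬ Commute δ β := fun e => hdb (by rw [← eδ, ← eβ]; exact (cm.comm δ hδ β hβ).mpr e)
  have hδρ : ¬ Commute δ ρ := fun e => hr (by rw [← eδ, ← eρ]; exact (cm.comm δ hδ ρ hρ).mpr e)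
  obtain ⟨x, hx, nχ, nβ, -, hδx⟩ := line_meet S htri hδχ hδβ hδρ
  have hcore : core D (l p) (m χ) (m β) (m ρ) = core D b (l p) (l q) (l r) := by
    rw [eχ, eβ, eρ, core_perm]
  have htr : ∀ {u}, u ∈ six E χ β ρ → u ≠ β → ∃ t ∈ six E p q r, t ≠ p ∧ (u ≠ χ → t ≠ q) ∧ l t = m u := by
    intro u hu nu
    have h1 : m u ∈ core D b (l p) (l q) (l r) := hcore ▸ (cm.core_iff hP.1 htri).mpr (Or.inr ⟨u, hu, rfl⟩)
    rcases (c.core_iff hb h).mp h1 with e | ⟨t, ht, e⟩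
    · exact absurd (cm.inj u hu.1.1 β hβ (e.trans eβ.symm)) nu
    · refine ⟨t, ht, fun et => (cm.mem u hu.1.1).2.1 (by rw [← e, et]), fun nuχ et => nuχ ?_, e⟩
      exact cm.inj u hu.1.1 χ hχ (by rw [← e, et, eχ])
  obtain ⟨s, hs, nsp, nsq, es⟩ := htr hx nβ
  refine ⟨s, hs, nsp, nsq nχ, ?_, fun t ht ntp ntq hdt => ?_⟩
  · rw [es, ← eδ]; exact (cm.comm δ hδ x hx.1.1).mpr hδx
  · have h1 : l t ∈ core D (l p) (m χ) (m β) (m ρ) := hcore ▸ (c.core_iff hb h).mpr (Or.inr ⟨t, ht, rfl⟩)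
    rcases (cm.core_iff hP.1 htri).mp h1 with e | ⟨u, hu, e⟩
    · exact absurd (c.inj t ht.1.1 p h.ma e) ntp
    · have nuχ : u ≠ χ := fun eu => ntq (c.inj t ht.1.1 q h.mb (by rw [← e, eu, eχ]))
      have hux : u = x := by
        by_contra hne
        refine hδβ (line_all S htri hu hx nuχ nχ hne hδ hδχ.2.2.symm ?_ hδx β (htri.mem_six (Or.inr (Or.inl rfl))))
        exact (cm.comm δ hδ u hu.1.1).mp (by rw [eδ, e]; exact hdt)
      exact c.inj t ht.1.1 s hs.1.1 (by rw [← e, hux, es])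

include S hch in
/-- a neighbour of a member at distance two commutes with a common neighbour -/
theorem near_step {d b x : G} (hd : d ∈ D) (hb : b ∈ D) (hdb : ¬ Commute d b) (hW : (perp₂ D d b).Nonempty)
    (hx : x ∈ perp D b) : ∃ p ∈ perp₂ D d b, Commute x p := by
  classical
  by_contra hno
  push Not at hno
  obtain ⟨a, ha⟩ := hW
  obtain ⟨l, c⟩ := hch b hb
  obtain ⟨α, hα, eα⟩ := c.surj a ha.2
  obtain ⟨ξ, hξ, eξ⟩ := c.surj x hx
  have hαξ : ¬ Commute α ξ := fun e => hno a ha (by rw [← eξ, ← eα]; exact ((c.comm α hα ξ hξ).mpr e).symm)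
  obtain ⟨ε, hεα, hεξ⟩ : (perp₂ E α ξ).Nonempty := Set.nonempty_of_ncard_ne_zero (by
    rw [ncard_trace S hα hξ hαξ]; norm_num)
  have hεE := hεα.1
  have hxε : Commute x (l ε) := by rw [← eξ]; exact (c.comm ξ hξ ε hεE).mpr hεξ.2.2
  have hdε : ¬ Commute d (l ε) := fun e => hno (l ε)
    ⟨⟨(c.mem ε hεE).1, fun h => hdb (h ▸ (c.mem ε hεE).2.2.symm), e⟩, c.mem ε hεE⟩ hxε
  -- in the chart at `a`
  obtain ⟨m, cm⟩ := hch a ha.1.1
  obtain ⟨β, hβ, eβ⟩ := cm.surj b ⟨hb, ha.2.2.1.symm, ha.2.2.2.symm⟩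
  obtain ⟨δ, hδ, eδ⟩ := cm.surj d ⟨hd, ha.1.2.1.symm, ha.1.2.2.symm⟩
  obtain ⟨η, hη, eη⟩ := cm.surj (l ε) ⟨(c.mem ε hεE).1, fun e => hεα.2.1 (c.inj ε hεE α hα (e.trans eα.symm)),
    by rw [← eα]; exact (c.comm α hα ε hεE).mpr hεα.2.2⟩
  have hβδ : ¬ Commute β δ := fun e => hdb (by rw [← eδ, ← eβ]; exact ((cm.comm β hβ δ hδ).mpr e).symm)
  have hηβ : η ∈ perp E β := ⟨hη, fun e => (c.mem ε hεE).2.1 (by rw [← eη, e, eβ]),
    (cm.comm β hβ η hη).mp (by rw [eβ, eη]; exact (c.mem ε hεE).2.2)⟩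
  have hηt : η ∉ perp₂ E β δ := fun hh => hdε (by
    rw [← eδ, ← eη]; exact (cm.comm δ hδ η hη).mpr hh.2.2.2)
  obtain ⟨γ', hγt, hγη⟩ : {p | p ∈ perp₂ E β δ ∧ Commute p η}.Nonempty := Set.nonempty_of_ncard_ne_zero (by
    rw [ncard_meet S hβ (mem_near S hβ hδ hβδ) hηβ hηt]; norm_num)
  have hγE : γ' ∈ E := hγt.1.1
  have hcW : m γ' ∈ perp₂ D d b := by
    have hm := cm.mem γ' hγE
    have h1 : Commute d (m γ') := by rw [← eδ]; exact (cm.comm δ hδ γ' hγE).mpr hγt.2.2.2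
    have h2 : Commute b (m γ') := by rw [← eβ]; exact (cm.comm β hβ γ' hγE).mpr hγt.1.2.2
    exact ⟨⟨hm.1, fun e => hγt.2.2.1 (cm.inj γ' hγE δ hδ (e.trans eδ.symm)), h1⟩,
      ⟨hm.1, fun e => hγt.1.2.1 (cm.inj γ' hγE β hβ (e.trans eβ.symm)), h2⟩⟩
  obtain ⟨γ, hγ, eγ⟩ := c.surj (m γ') hcW.2
  -- a base of the chart at `b`
  have hdα : Commute d (l α) := by rw [eα]; exact ha.1.2.2
  have hdγ : Commute d (l γ) := by rw [eγ]; exact hcW.1.2.2
  have nγα : γ ≠ α := fun e => (cm.mem γ' hγE).2.1 (by rw [← eγ, e, eα])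
  have nγε : γ ≠ ε := fun e => hdε (e ▸ hdγ)
  have cαγ : Commute α γ := (c.comm α hα γ hγ).mp (by rw [eα, eγ]; exact (cm.mem γ' hγE).2.2)
  have cεγ : Commute ε γ := (c.comm ε hεE γ hγ).mp (by
    rw [← eη, eγ]; exact ((cm.comm γ' hγE η hη).mpr hγη).symm)
  have cαε : Commute α ε := hεα.2.2
  have nαε : α ≠ ε := fun e => hεα.2.1 e.symm
  have htri : Tri E ε α γ := ⟨hεE, hα, hγ, nαε.symm, nγε.symm, nγα.symm, cαε.symm, cεγ, cαγ⟩
  obtain ⟨B, hB, hsub⟩ := FischerMTypes90.exists_base_of_clique S (X := {ε, α, γ})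
    (by rintro u (rfl | rfl | rfl) <;> assumption)
    (by
      rintro u (rfl | rfl | rfl) v (rfl | rfl | rfl)
      exacts [Commute.refl _, cαε.symm, cεγ, cαε, Commute.refl _, cαγ, cεγ.symm, cαγ.symm, Commute.refl _])
  have hεB : ε ∈ B := hsub (by simp)
  have hαB : α ∈ B := hsub (by simp)
  have hγB : γ ∈ B := hsub (by simp)
  -- two points of the base joined to `x`
  have hξε : ξ ∈ perp E ε := ⟨hξ, Ne.symm hεξ.2.1, hεξ.2.2.symm⟩
  have hξα : ¬ Commute ξ α := fun e => hαξ e.symm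
  have hξγ : ¬ Commute ξ γ := fun e => hno (m γ') hcW (by rw [← eξ, ← eγ]; exact (c.comm ξ hξ γ hγ).mpr e)
  obtain ⟨h1, hh1, n1ε, n1α, -, hξh1⟩ := line_meet S htri hξε hξα hξγ
  obtain ⟨r, hrB, hr⟩ := Set.exists_mem_notMem_of_ncard_lt_ncard (s := six E ε α γ) (t := B)
    (by rw [ncard_six S htri, hB.card]; norm_num) (Set.toFinite _)
  have h1B : h1 ∈ B := hB.closed S hεB hαB hγB hh1
  have nrε : r ≠ ε := fun e => hr (e ▸ htri.mem_six (Or.inl rfl))
  have nrα : r ≠ α := fun e => hr (e ▸ htri.mem_six (Or.inr (Or.inl rfl)))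
  obtain ⟨h2, h2B, n2ε, n21, hξh2⟩ : ∃ h2 ∈ B, h2 ≠ ε ∧ h2 ≠ h1 ∧ Commute ξ h2 := by
    by_cases hrξ : Commute ξ r
    · exact ⟨r, hrB, nrε, fun e => hr (e ▸ hh1), hrξ⟩
    · have htri2 : Tri E ε α r := hB.tri hεB hαB hrB nαε.symm nrε.symm nrα.symm
      obtain ⟨h2, hh2, n2ε, n2α, -, hξh2⟩ := line_meet S htri2 hξε hξα hrξ
      refine ⟨h2, hB.closed S hεB hαB hrB hh2, n2ε, fun e => hr ?_, hξh2⟩
      have e1 := six_eq S htri (htri.mem_six (Or.inl rfl)) (htri.mem_six (Or.inr (Or.inl rfl))) hh1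
        nαε.symm n1ε.symm n1α.symm
      have e2 := six_eq S htri2 (htri2.mem_six (Or.inl rfl)) (htri2.mem_six (Or.inr (Or.inl rfl))) hh2
        nαε.symm n2ε.symm n2α.symm
      rw [← e1, ← e, e2]
      exact htri2.mem_six (Or.inr (Or.inr rfl))
  have htriH : Tri E ε h1 h2 := hB.tri hεB h1B h2B n1ε.symm n2ε.symm n21.symm
  -- the members of the base joined to `d`
  let := Fintype.ofFinite B
  have T := FischerMTypes90.base_system S hB
  set P : Finset B := Finset.univ.filter fun p : B => Commute d (l (p : Q))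
  have hP2 : 2 ≤ P.card := Finset.one_lt_card.mpr ⟨⟨α, hαB⟩, by simp [P, hdα], ⟨γ, hγB⟩, by simp [P, hdγ],
    fun e => nγα (congrArg Subtype.val e).symm⟩
  have hP3 : ∀ H ∈ blks E B, 2 ≤ (H ∩ P).card → (H ∩ P).card = 3 := by
    intro H hH h2c
    obtain ⟨p', q', r', n1, n2, n3, rfl⟩ := mem_blks.mp hH
    have ht' : Tri E (p' : Q) q' r' := hB.tri p'.2 q'.2 r'.2 (Subtype.coe_ne_coe.mpr n1) (Subtype.coe_ne_coe.mpr n2)
      (Subtype.coe_ne_coe.mpr n3)
    obtain ⟨p, hp, q, hq, hpq⟩ := Finset.one_lt_card.mp h2c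
    simp only [Finset.mem_inter, mem_blk, P, Finset.mem_filter, Finset.mem_univ, true_and] at hp hq
    obtain ⟨w, hw, hdw⟩ : ∃ w ∈ six E (p' : Q) q' r', ¬ Commute d (l w) := by
      by_contra hall
      push Not at hall
      have hfin := Set.toFinite (six E (p' : Q) q' r')
      refine hdb ?_
      rw [← c.six_prod _ _ _ ht' hfin.toFinset.toList (Finset.nodup_toList _) (fun u => by simp)]
      exact Commute.list_prod_right _ _ fun u hu => by
        obtain ⟨v, hv, rfl⟩ := List.mem_map.mp hu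
        exact hall v (by simpa using hv)
    have nwp : w ≠ p := fun e => hdw (e ▸ hp.2)
    have nwq : w ≠ q := fun e => hdw (e ▸ hq.2)
    have hpq' : (p : Q) ≠ q := Subtype.coe_ne_coe.mpr hpq
    have e3 := six_eq S ht' hp.1 hq.1 hw hpq' nwp.symm nwq.symm
    have ht3 : Tri E (p : Q) q w := hB.tri p.2 q.2 (hB.closed S p'.2 q'.2 r'.2 hw) hpq' nwp.symm nwq.symm
    obtain ⟨s, hs, nsp, nsq, hds, huniq⟩ := third S hch hb hd hdb c ht3 hp.2 hq.2 hdw
    rw [e3] at hs huniq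
    rw [Finset.card_eq_three]
    refine ⟨p, q, ⟨s, hB.closed S p'.2 q'.2 r'.2 hs⟩, hpq, fun e => nsp (congrArg Subtype.val e).symm,
      fun e => nsq (congrArg Subtype.val e).symm, ?_⟩
    ext u
    simp only [Finset.mem_inter, mem_blk, P, Finset.mem_filter, Finset.mem_univ, true_and, Finset.mem_insert,
      Finset.mem_singleton]
    constructor
    · rintro ⟨hu, hdu⟩
      by_cases hup : u = p
      · exact Or.inl hup
      by_cases huq : u = q
      · exact Or.inr (Or.inl huq)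
      exact Or.inr (Or.inr (Subtype.ext (huniq u hu (Subtype.coe_ne_coe.mpr hup) (Subtype.coe_ne_coe.mpr huq) hdu)))
    · rintro (rfl | rfl | rfl)
      exacts [hp, hq, ⟨hs, hds⟩]
  obtain ⟨p, hp⟩ := meet_all T P hP2 hP3 (blk E (⟨ε, hεB⟩ : B) ⟨h1, h1B⟩ ⟨h2, h2B⟩)
    (mem_blks.mpr ⟨_, _, _, fun e => n1ε (congrArg Subtype.val e).symm, fun e => n2ε (congrArg Subtype.val e).symm,
      fun e => n21 (congrArg Subtype.val e).symm, rfl⟩)
  simp only [Finset.mem_inter, mem_blk, P, Finset.mem_filter, Finset.mem_univ, true_and] at hp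
  have hm := c.mem (p : Q) (hB.sub p.2)
  refine hno (l p) ⟨⟨hm.1, fun e => hdb (e ▸ hm.2.2.symm), hp.2⟩, hm⟩ ?_
  rw [← eξ]
  exact (c.comm ξ hξ _ (hB.sub p.2)).mpr (hp.1.2 ξ ⟨hξ, hξε.2.2, hξh1.symm, hξh2.symm⟩).symm

end Cfsg.Agent.Lib.FischerM23C90
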