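import Mathlib

/-!
Two involutions either are conjugate inside the dihedral group they span or commute with an
involution of it whose products with them are conjugate to one of them; products of at most six
members of a perfect short code.
-/

set_option autoImplicit false
set_option linter.style.haveILetI false
set_option linter.unusedSectionVars false

namespace Cfsg.Agent.Lib.FischerM23C90

variable {G : Type*} [Group G] [Finite G]

theorem commute_mul_iff_of_inv {c w : G} (hw : w * w = 1) (hc : c * c = 1) (h : w * c * w = c⁻¹) :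
    Commute c w := by
  have hci : c⁻¹ = c := inv_eq_of_mul_eq_one_right hc
  rw [hci] at h
  calc c * w = w * c * w * w := by rw [h]
    _ = w * c := by rw [mul_assoc, hw, mul_one]

/-- the dihedral alternative -/
theorem dihedral {w k : G} (hw : w * w = 1) (hk : k * k = 1) :
    (∃ q : G, (∀ t, Commute t w → Commute t k → Commute t q) ∧ q * w * q⁻¹ = k) ∨
      ∃ c : G, (∀ t, Commute t w → Commute t k → Commute t c) ∧ c * c = 1 ∧ c ≠ 1 ∧ Commute c w ∧ Commute c k ∧
        ∀ D : Set G, (∀ g, ∀ x ∈ D, g * x * g⁻¹ ∈ D) → w ∈ D → k ∈ D → c * w ∈ D ∧ c * k ∈ D := by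
  set r := w * k with hr
  have hwi : w⁻¹ = w := inv_eq_of_mul_eq_one_right hw
  have hki : k⁻¹ = k := inv_eq_of_mul_eq_one_right hk
  have hri : r⁻¹ = k * w := by rw [hr, mul_inv_rev, hwi, hki]
  have hwr : ∀ n : ℕ, w * r ^ n * w = (r ^ n)⁻¹ := fun n => by
    have h1 : w * r * w⁻¹ = r⁻¹ := by rw [hri, hr, hwi, ← mul_assoc w w, hw, one_mul]
    rw [← inv_pow, ← h1, conj_pow, hwi]
  have hkr : ∀ n : ℕ, k * r ^ n * k = (r ^ n)⁻¹ := fun n => by
    have h1 : k * r * k⁻¹ = r⁻¹ := by
      rw [hri, hr, hki]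
      calc k * (w * k) * k = k * w * (k * k) := by group
        _ = k * w := by rw [hk, mul_one]
    rw [← inv_pow, ← h1, conj_pow, hki]
  have hcomm : ∀ n : ℕ, ∀ t, Commute t w → Commute t k → Commute t (r ^ n) :=
    fun n t h1 h2 => (h1.mul_right h2).pow_right n
  have hwconj : ∀ a : ℕ, r ^ a * w * (r ^ a)⁻¹ = r ^ (2 * a) * w := fun a => by
    rw [← hwr a, two_mul, pow_add]
    calc r ^ a * w * (w * r ^ a * w) = r ^ a * (w * w) * r ^ a * w := by group
      _ = r ^ a * r ^ a * w := by rw [hw, mul_one]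
  have hkconj : ∀ a : ℕ, r ^ a * k * (r ^ a)⁻¹ = r ^ (2 * a) * k := fun a => by
    rw [← hkr a, two_mul, pow_add]
    calc r ^ a * k * (k * r ^ a * k) = r ^ a * (k * k) * r ^ a * k := by group
      _ = r ^ a * r ^ a * k := by rw [hk, mul_one]
  have hn : 0 < orderOf r := orderOf_pos r
  have hrn : r ^ orderOf r = 1 := pow_orderOf_eq_one r
  have hrk : r * k = w := by rw [hr, mul_assoc, hk, mul_one]
  rcases Nat.even_or_odd (orderOf r) with ⟨m, hm⟩ | ⟨m, hm⟩
  · right
    have hc2 : r ^ m * r ^ m = 1 := by rw [← pow_add, ← hm, hrn]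
    refine ⟨r ^ m, hcomm m, hc2, pow_ne_one_of_lt_orderOf (by omega) (by omega),
      commute_mul_iff_of_inv hw hc2 (hwr m), commute_mul_iff_of_inv hk hc2 (hkr m), fun D hD hwD hkD => ?_⟩
    rcases Nat.even_or_odd m with ⟨s, rfl⟩ | ⟨s, rfl⟩
    · rw [← two_mul]
      exact ⟨hwconj s ▸ hD _ w hwD, hkconj s ▸ hD _ k hkD⟩
    · constructor
      · have := hD (r ^ (s + 1)) k hkD
        rwa [hkconj, show 2 * (s + 1) = 2 * s + 1 + 1 by ring, pow_succ, mul_assoc, hrk] at this
      · have := hD (r ^ s) w hwD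
        rw [hwconj] at this
        rwa [pow_succ, mul_assoc, hrk]
  · left
    refine ⟨r ^ m, hcomm m, ?_⟩
    rw [hwconj]
    have h1 : r ^ (2 * m) = r⁻¹ := eq_inv_of_mul_eq_one_left (by rw [← pow_succ, ← hm, hrn])
    rw [h1, hri, mul_assoc, hw, mul_one]

/-- products of lists of at most six members of a perfect code of radius three determine them -/
theorem perm_of_prod (A : Subgroup G) (hab : ∀ x ∈ A, ∀ y ∈ A, Commute x y) (hsq : ∀ x ∈ A, x * x = 1)
    (hA : Nat.card A = 2048) (X : Set G) (hXA : X ⊆ A) (hX : X.ncard = 23)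
    (hshort : ∀ t ∈ A, ∃ l : List G, l.Nodup ∧ (∀ x ∈ l, x ∈ X) ∧ l.length ≤ 3 ∧ l.prod = t)
    {l₁ l₂ : List G} (h1 : l₁.Nodup) (h2 : l₂.Nodup) (m1 : ∀ x ∈ l₁, x ∈ X) (m2 : ∀ x ∈ l₂, x ∈ X)
    (hlen : l₁.length + l₂.length ≤ 6) (hp : l₁.prod = l₂.prod) : l₁.Perm l₂ := by
  classical
  letI : CommGroup ↥A :=
    { (inferInstance : Group ↥A) with mul_comm := fun x y => Subtype.ext (hab x x.2 y y.2).eq }
  let := Fintype.ofFinite ↥A
  set X' : Finset ↥A := Finset.univ.filter fun x : ↥A => (x : G) ∈ X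
  have hX' : X'.card = 23 := by
    rw [← hX, ← Set.ncard_coe_finset, ← Set.ncard_image_of_injective _ (Subtype.val_injective (p := (· ∈ A)))]
    congr 1
    ext x
    simp only [X', Set.mem_image, Finset.coe_filter, Finset.mem_univ, true_and, Set.mem_ofPred_eq]
    exact ⟨fun ⟨y, hy, e⟩ => e ▸ hy, fun hx => ⟨⟨x, hXA hx⟩, hx, rfl⟩⟩
  let φ : Finset ↥A → ↥A := fun s => ∏ x ∈ s, x
  let S := (Finset.range 4).biUnion fun k => X'.powersetCard k
  have hS : S.card ≤ 2048 := by
    refine Finset.card_biUnion_le.trans ?_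
    simp only [Finset.card_powersetCard, hX', Finset.sum_range_succ, Finset.sum_range_zero]
    decide
  have lift : ∀ l : List G, l.Nodup → (∀ x ∈ l, x ∈ X) → ∃ s : Finset ↥A, s ⊆ X' ∧ s.card = l.length ∧
      (φ s : G) = l.prod ∧ ∀ x : ↥A, x ∈ s ↔ (x : G) ∈ l := by
    intro l hnd hm
    set l' : List ↥A := l.attach.map fun x => ⟨x.1, hXA (hm x.1 x.2)⟩ with hl'
    have hval : l'.map Subtype.val = l := by
      simp [hl', List.map_map, Function.comp_def]
    have hnd' : l'.Nodup := List.Nodup.of_map Subtype.val (hval.symm ▸ hnd)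
    refine ⟨l'.toFinset, fun x hx => ?_, ?_, ?_, fun x => ?_⟩
    · have hx' : (x : G) ∈ l := hval ▸ List.mem_map_of_mem (List.mem_toFinset.mp hx)
      simpa [X'] using hm x hx'
    · rw [List.toFinset_card_of_nodup hnd']; simp [hl']
    · simp only [φ]
      rw [List.prod_toFinset _ hnd', List.map_id', ← hval]
      exact map_list_prod A.subtype l'
    · rw [List.mem_toFinset]
      conv_rhs => rw [← hval]
      exact (List.mem_map_of_injective Subtype.val_injective).symm
  have memS : ∀ {s : Finset ↥A}, s ⊆ X' → s.card ≤ 3 → s ∈ S := fun hs hc =>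
    Finset.mem_biUnion.mpr ⟨_, Finset.mem_range.mpr (by omega), Finset.mem_powersetCard.mpr ⟨hs, rfl⟩⟩
  have hsurj : S.image φ = Finset.univ := by
    refine Finset.eq_univ_iff_forall.mpr fun t => Finset.mem_image.mpr ?_
    obtain ⟨l, hnd, hm, hl, hprod⟩ := hshort t t.2
    obtain ⟨s, hs, hc, hφ, -⟩ := lift l hnd hm
    exact ⟨s, memS hs (by omega), Subtype.ext (hφ.trans hprod)⟩
  have hinj : Set.InjOn φ (S : Set (Finset ↥A)) := by
    refine Finset.card_image_iff.mp (le_antisymm Finset.card_image_le ?_)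
    rwa [hsurj, Finset.card_univ, ← Nat.card_eq_fintype_card, hA]
  have hsdisj : ∀ s t : Finset ↥A, φ s = φ t → φ ((s \ t) ∪ (t \ s)) = 1 := by
    intro s t hst
    simp only [φ] at hst ⊢
    rw [Finset.prod_union disjoint_sdiff_sdiff]
    have e1 := Finset.prod_inter_mul_prod_sdiff s t (fun x : ↥A => x)
    have e2 := Finset.prod_inter_mul_prod_sdiff t s (fun x : ↥A => x)
    rw [Finset.inter_comm t s] at e2
    rw [← hst, ← e1] at e2
    rw [mul_left_cancel e2]
    exact Subtype.ext (hsq _ (∏ x ∈ s \ t, x : ↥A).2)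
  have hempty : ∀ s : Finset ↥A, s ⊆ X' → s.card ≤ 6 → φ s = 1 → s = ∅ := by
    intro s hs hc h1'
    obtain ⟨u, hu, huc⟩ := Finset.exists_subset_card_eq (s := s) (n := min s.card 3) (min_le_left _ _)
    have hv : (s \ u).card ≤ 3 := by rw [Finset.card_sdiff_of_subset hu]; omega
    have hp' : φ (s \ u) * φ u = 1 := by
      show (∏ x ∈ s \ u, x) * ∏ x ∈ u, x = 1
      rw [Finset.prod_sdiff hu]; exact h1'
    have hinv : ∀ x : ↥A, x⁻¹ = x := fun x => inv_eq_of_mul_eq_one_right (Subtype.ext (hsq _ x.2))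
    have he : φ (s \ u) = φ u := by rw [eq_inv_of_mul_eq_one_left hp', hinv]
    have heq := hinj (Finset.mem_coe.mpr (memS (Finset.sdiff_subset.trans hs) hv))
      (Finset.mem_coe.mpr (memS (hu.trans hs) (by omega))) he
    have hu0 : u = ∅ := by
      refine Finset.eq_empty_of_forall_notMem fun x hx => ?_
      have := heq.symm ▸ hx
      exact (Finset.mem_sdiff.mp this).2 hx
    rw [hu0, Finset.card_empty] at huc
    exact Finset.card_eq_zero.mp (by omega)
  obtain ⟨s, hs, hsc, hsp, hsm⟩ := lift l₁ h1 m1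
  obtain ⟨t, ht, htc, htp, htm⟩ := lift l₂ h2 m2
  have h0 := hempty ((s \ t) ∪ (t \ s))
    (Finset.union_subset (Finset.sdiff_subset.trans hs) (Finset.sdiff_subset.trans ht)) (by
      refine (Finset.card_union_le _ _).trans ?_
      have := Finset.card_le_card (Finset.sdiff_subset (s := s) (t := t))
      have := Finset.card_le_card (Finset.sdiff_subset (s := t) (t := s))
      omega) (hsdisj s t (Subtype.ext (by rw [hsp, htp, hp])))
  rw [Finset.union_eq_empty, Finset.sdiff_eq_empty_iff_subset, Finset.sdiff_eq_empty_iff_subset] at h0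
  refine (List.perm_ext_iff_of_nodup h1 h2).mpr fun x => ⟨fun hx => ?_, fun hx => ?_⟩
  · exact (htm ⟨x, hXA (m1 x hx)⟩).mp (h0.1 ((hsm _).mpr hx))
  · exact (hsm ⟨x, hXA (m2 x hx)⟩).mp (h0.2 ((htm _).mpr hx))

end Cfsg.Agent.Lib.FischerM23C90
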