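import Mathlib
import Cfsg.Agent.Lib.FischerM23C90.Tools
import Cfsg.Agent.Lib.FischerM23C90.Near

/-!
A conjugation-invariant set of involutions all whose perp sets are charted by a group of type
M(22), with a perfect code over one maximal set of commuting members: the commuting graph is
connected.
-/

set_option autoImplicit false
set_option linter.style.haveILetI false
set_option linter.unusedSectionVars false

namespace Cfsg.Agent.Lib.FischerM23C90

open Cfsg.Agent.Lib.FischerMTypes.Basic Cfsg.Agent.Lib.FischerMTypes.Primitive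
  Cfsg.Agent.Lib.FischerMTypes.Aut22
open Cfsg.Agent.Lib.FischerMTypes.TraceCounts (Sys)

variable {G : Type*} [Group G] [Finite G] {D : Set G}
variable {Q : Type*} [Group Q] [Finite Q] {E : Set Q}
variable {F : Type} [Field F] [Fintype F]

/-- pairwise commuting distinct members -/
structure Cl (D : Set G) (l : List G) : Prop where
  nd : l.Nodup
  mem : ∀ x ∈ l, x ∈ D
  comm : ∀ x ∈ l, ∀ y ∈ l, Commute x y

/-- the setting -/
structure Host (D : Set G) (E : Set Q) (A : Subgroup G) (X : Set G) : Prop where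
  conjD : ∀ g : G, ∀ x ∈ D, g * x * g⁻¹ ∈ D
  order : ∀ x ∈ D, orderOf x = 2
  trans : ∀ x ∈ D, ∀ y ∈ D, IsConj x y
  odd : Odd D.ncard
  chart : ∀ a ∈ D, ∃ l, Chart D E a l
  hX : X = {x | x ∈ A ∧ x ∈ D}
  card23 : X.ncard = 23
  cardA : Nat.card A = 2048
  ab : ∀ x ∈ A, ∀ y ∈ A, Commute x y
  Asq : ∀ x ∈ A, x * x = 1
  short : ∀ t ∈ A, ∃ l : List G, l.Nodup ∧ (∀ x ∈ l, x ∈ X) ∧ l.length ≤ 3 ∧ l.prod = t
  fusion : ∀ s ∈ A, ∀ t ∈ A, IsConj s t → ∃ n ∈ Subgroup.normalizer (A : Set G), n * s * n⁻¹ = t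
  cliq : ∀ l : List G, Cl D l → l.length ≤ 4 → ∃ g : G, ∀ x ∈ l, g * x * g⁻¹ ∈ X
  invol : ∀ k ∈ D, ∀ t : G, t * t = 1 → t ≠ 1 → Commute t k →
    ∃ l : List G, Cl D l ∧ 1 ≤ l.length ∧ l.length ≤ 3 ∧ l.prod = t ∧ ∀ x ∈ l, Commute x k

/-- at distance at most two -/
def Rel (D : Set G) (a b : G) : Prop := b ∈ D ∧ (Commute a b ∨ (perp₂ D a b).Nonempty)

theorem Cl.two {u v : G} (hu : u ∈ D) (hv : v ∈ D) (n : u ≠ v) (c : Commute u v) : Cl D [u, v] :=
  ⟨by simp [n], by simp [hu, hv], by simp [c, c.symm]⟩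

theorem Cl.three {u v w : G} (hu : u ∈ D) (hv : v ∈ D) (hw : w ∈ D) (n1 : u ≠ v) (n2 : u ≠ w) (n3 : v ≠ w)
    (c1 : Commute u v) (c2 : Commute u w) (c3 : Commute v w) : Cl D [u, v, w] :=
  ⟨by simp [n1, n2, n3], by simp [hu, hv, hw], by simp [c1, c1.symm, c2, c2.symm, c3, c3.symm]⟩

theorem Cl.four {u v w x : G} (hu : u ∈ D) (hv : v ∈ D) (hw : w ∈ D) (hx : x ∈ D) (n1 : u ≠ v) (n2 : u ≠ w)
    (n3 : u ≠ x) (n4 : v ≠ w) (n5 : v ≠ x) (n6 : w ≠ x) (c1 : Commute u v) (c2 : Commute u w) (c3 : Commute u x)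
    (c4 : Commute v w) (c5 : Commute v x) (c6 : Commute w x) : Cl D [u, v, w, x] :=
  ⟨by simp [n1, n2, n3, n4, n5, n6], by simp [hu, hv, hw, hx],
    by simp [c1, c1.symm, c2, c2.symm, c3, c3.symm, c4, c4.symm, c5, c5.symm, c6, c6.symm]⟩

variable {A : Subgroup G} {X : Set G} (S : Sys E F) (h : Host D E A X)

include h in
theorem Host.sq {x : G} (hx : x ∈ D) : x * x = 1 := by
  rw [← pow_two, ← h.order x hx, pow_orderOf_eq_one]

include h in
/-- products of short cliques of different lengths are not conjugate -/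
theorem Host.prod_len {l₁ l₂ : List G} (h1 : Cl D l₁) (h2 : Cl D l₂) (g1 : l₁.length ≤ 4) (g2 : l₂.length ≤ 4)
    (hs : l₁.length + l₂.length ≤ 6) (hc : IsConj l₁.prod l₂.prod) : l₁.length = l₂.length := by
  obtain ⟨u, hu⟩ := h.cliq l₁ h1 g1
  obtain ⟨v, hv⟩ := h.cliq l₂ h2 g2
  set m₁ := l₁.map (MulAut.conj u) with hm₁
  set m₂ := l₂.map (MulAut.conj v) with hm₂
  have hXA : X ⊆ A := fun x hx => by rw [h.hX] at hx; exact hx.1
  have hmX : ∀ x ∈ m₁, x ∈ X := fun x hx => by obtain ⟨y, hy, rfl⟩ := List.mem_map.mp hx; exact hu y hy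
  have hmX2 : ∀ x ∈ m₂, x ∈ X := fun x hx => by obtain ⟨y, hy, rfl⟩ := List.mem_map.mp hx; exact hv y hy
  have hp1 : m₁.prod = u * l₁.prod * u⁻¹ := by
    rw [hm₁, ← MulAut.conj_apply, map_list_prod]
  have hp2 : m₂.prod = v * l₂.prod * v⁻¹ := by
    rw [hm₂, ← MulAut.conj_apply, map_list_prod]
  have hconj : IsConj m₁.prod m₂.prod := by
    rw [hp1, hp2]
    exact ((isConj_iff.mpr ⟨u, rfl⟩ : IsConj l₁.prod _).symm.trans hc).trans (isConj_iff.mpr ⟨v, rfl⟩)
  obtain ⟨n, hn, hne⟩ := h.fusion _ (list_prod_mem fun x hx => hXA (hmX x hx))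
    _ (list_prod_mem fun x hx => hXA (hmX2 x hx)) hconj
  set m₃ := m₁.map (MulAut.conj n) with hm₃
  have hm3X : ∀ x ∈ m₃, x ∈ X := fun x hx => by
    obtain ⟨y, hy, rfl⟩ := List.mem_map.mp hx
    have hy' := hmX y hy
    rw [h.hX] at hy' ⊢
    exact ⟨(Subgroup.mem_normalizer_iff.mp hn y).mp hy'.1, h.conjD n y hy'.2⟩
  have hp3 : m₃.prod = m₂.prod := by rw [← hne, hm₃, ← MulAut.conj_apply, map_list_prod]
  have hperm := perm_of_prod A h.ab h.Asq h.cardA X hXA h.card23 h.short
    ((h1.nd.map (MulAut.conj u).injective).map (MulAut.conj n).injective) (h2.nd.map (MulAut.conj v).injective)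
    hm3X hmX2 (by simp [m₁, m₂, hs]) hp3
  simpa [m₃, m₁, m₂] using hperm.length_eq

theorem Rel.of_comm {a b : G} (hb : b ∈ D) (hab : Commute a b) : Rel D a b := ⟨hb, Or.inl hab⟩

theorem Rel.symm' {a b : G} (ha : a ∈ D) (hr : Rel D a b) : Rel D b a :=
  ⟨ha, hr.2.imp Commute.symm fun ⟨p, hp⟩ => ⟨p, hp.2, hp.1⟩⟩

include S h in
theorem Host.step {a b y : G} (ha : a ∈ D) (hr : Rel D a b) (hy : y ∈ D) (hby : Commute b y) : Rel D a y := by
  by_cases hay : Commute a y
  · exact ⟨hy, Or.inl hay⟩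
  refine ⟨hy, Or.inr ?_⟩
  by_cases hab : Commute a b
  · exact ⟨b, ⟨hr.1, fun e => hay (e ▸ hby), hab⟩, hr.1, fun e => hay (e ▸ hab), hby.symm⟩
  by_cases hyb : y = b
  · rw [hyb]; exact hr.2.resolve_left hab
  obtain ⟨p, hp, hyp⟩ := near_step S h.chart ha hr.1 hab (hr.2.resolve_left hab)
    (x := y) ⟨hy, hyb, hby⟩
  exact ⟨p, hp.1, hp.1.1, fun e => hay (e ▸ hp.1.2.2), hyp⟩

include S h in
theorem Host.rel_trans {a b c : G} (ha : a ∈ D) (h1 : Rel D a b) (h2 : Rel D b c) : Rel D a c := by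
  rcases h2.2 with hc | ⟨p, hp⟩
  · exact h.step S ha h1 h2.1 hc
  · exact h.step S ha (h.step S ha h1 hp.1.1 hp.1.2.2) h2.1 hp.2.2.2.symm

include h in
theorem Host.order_three {a b : G} (hr : Rel D a b) (ha : a ∈ D) (hab : ¬ Commute a b) : (a * b) ^ 3 = 1 := by
  obtain ⟨p, hp⟩ := hr.2.resolve_left hab
  obtain ⟨l, c⟩ := h.chart p hp.1.1
  obtain ⟨α, hα, rfl⟩ := c.surj a ⟨ha, hp.1.2.1.symm, hp.1.2.2.symm⟩
  obtain ⟨β, hβ, rfl⟩ := c.surj b ⟨hr.1, hp.2.2.1.symm, hp.2.2.2.symm⟩
  exact c.braid α hα β hβ fun e => hab ((c.comm α hα β hβ).mpr e)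

include S h in
/-- a member commuting with a product of two commuting members commutes with both, inside a component -/
theorem Host.comm_mul {u v x : G} (hu : u ∈ D) (hv : v ∈ D) (huv : Commute u v) (hne : u ≠ v)
    (hx : Rel D u x) (hc : Commute x (u * v)) : Commute x u ∧ Commute x v := by
  have hset : Cfsg.IsThreeTranspositionSet {y | Rel D u y} := by
    refine ⟨fun y hy => h.order y hy.1, fun y hy w hw => ?_⟩
    by_cases hyw : Commute y w
    · left
      rw [pow_two, hyw.symm.mul_mul_mul_comm, h.sq hy.1, h.sq hw.1, one_mul]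
    · exact Or.inr (h.order_three (h.rel_trans S hy.1 (Rel.symm' hu hy) hw) hy.1 hyw)
  exact comm_of_comm_mul hset (Rel.of_comm hu (Commute.refl u)) (Rel.of_comm hv huv) hx huv hne hc

theorem prod_two' (u v : G) : [u, v].prod = u * v := by simp

theorem prod_three' (u v w : G) : [u, v, w].prod = u * (v * w) := by simp

theorem prod_four' (u v w x : G) : [u, v, w, x].prod = u * (v * (w * x)) := by simp

theorem prod_shift {d : G} : ∀ {l : List G}, (∀ x ∈ l, Commute d x) →
    (l.map fun x => d * x).prod = d ^ l.length * l.prod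
  | [], _ => by simp
  | a :: l, hl => by
    rw [List.map_cons, List.prod_cons, prod_shift (fun x hx => hl x (List.mem_cons_of_mem _ hx)), List.prod_cons,
      List.length_cons, pow_succ']
    calc d * a * (d ^ l.length * l.prod) = d * (a * d ^ l.length) * l.prod := by group
      _ = d * (d ^ l.length * a) * l.prod := by rw [((hl a (by simp)).pow_left _).symm.eq]
      _ = _ := by group

include S h in
theorem Host.exists_third {u v : G} (hu : u ∈ D) (hv : v ∈ perp D u) : ∃ w ∈ D, w ≠ u ∧ w ≠ v ∧ Commute u w ∧ Commute v w := by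
  obtain ⟨l, c⟩ := h.chart u hu
  obtain ⟨β, hβ, rfl⟩ := c.surj v hv
  obtain ⟨γ, hγ⟩ : (perp E β).Nonempty := Set.nonempty_of_ncard_ne_zero (by
    rw [(S.ctx β hβ).ncard_perp]; norm_num)
  exact ⟨l γ, (c.mem γ hγ.1).1, (c.mem γ hγ.1).2.1, fun e => hγ.2.1 (c.inj γ hγ.1 β hβ e), (c.mem γ hγ.1).2.2,
    (c.comm β hβ γ hγ.1).mpr hγ.2.2⟩

include S h in
theorem Host.exists_fourth {u v w : G} (hu : u ∈ D) (hv : v ∈ perp D u) (hw : w ∈ perp D u) (hne : v ≠ w)
    (hvw : Commute v w) : ∃ l : Q → G, ∃ α β γ : Q, Chart D E u l ∧ Tri E α β γ ∧ l α = v ∧ l β = w := by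
  obtain ⟨l, c⟩ := h.chart u hu
  obtain ⟨α, hα, rfl⟩ := c.surj v hv
  obtain ⟨β, hβ, rfl⟩ := c.surj w hw
  have hαβ : β ∈ perp E α := ⟨hβ, fun e => hne (e ▸ rfl), (c.comm α hα β hβ).mp hvw⟩
  obtain ⟨γ, hγ⟩ : (perp₂ E α β).Nonempty := Set.nonempty_of_ncard_ne_zero (by
    rw [(S.ctx α hα).ncard_edge hαβ]; norm_num)
  exact ⟨l, α, β, γ, c, ⟨hα, hβ, hγ.1.1, Ne.symm hαβ.2.1, Ne.symm hγ.1.2.1, Ne.symm hγ.2.2.1, hαβ.2.2,
    hγ.1.2.2, hγ.2.2.2⟩, rfl, rfl⟩

include S h in
/-- the centre of two triangles with equal products -/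
theorem Host.star {d a y b b' x : G} (h1 : Cl D [d, a, y]) (h2 : Cl D [b, b', x]) (e1 : d * a = b * b')
    (e2 : d * y = b * x) (hnr : ¬ Rel D d b) : False := by
  have hdD : d ∈ D := h1.mem d (by simp)
  have haD : a ∈ D := h1.mem a (by simp)
  have hyD : y ∈ D := h1.mem y (by simp)
  have hbD : b ∈ D := h2.mem b (by simp)
  have hda : Commute d a := h1.comm d (by simp) a (by simp)
  have hdy : Commute d y := h1.comm d (by simp) y (by simp)
  have hnd := h1.nd
  simp only [List.nodup_cons, List.mem_cons, List.not_mem_nil, or_false, not_or, List.nodup_nil, and_true,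
    not_false_eq_true] at hnd
  obtain ⟨⟨nda, ndy⟩, nay⟩ := hnd
  have key : ∀ z ∈ D, Commute z d → Commute z a → Commute z y → Commute (d * z) b := by
    intro z hz czd cza czy
    by_cases hzd : z = d
    · rw [hzd, h.sq hdD]; exact Commute.one_left _
    by_cases hza : z = a
    · rw [hza, e1]; exact (Commute.refl b).mul_left (h2.comm b' (by simp) b (by simp))
    by_cases hzy : z = y
    · rw [hzy, e2]; exact (Commute.refl b).mul_left (h2.comm x (by simp) b (by simp))
    have ctb : ∀ {u v : G}, (u = a ∧ v = b') ∨ (u = y ∧ v = x) → Commute z (d * u) ∧ Commute b (d * u) ∧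
        d * u = b * v := by
      rintro u v (⟨rfl, rfl⟩ | ⟨rfl, rfl⟩)
      · exact ⟨czd.mul_right cza, by rw [e1]; exact (Commute.refl b).mul_right (h2.comm b (by simp) _ (by simp)), e1⟩
      · exact ⟨czd.mul_right czy, by rw [e2]; exact (Commute.refl b).mul_right (h2.comm b (by simp) _ (by simp)), e2⟩
    obtain ⟨cz, cb, -⟩ := ctb (Or.inl ⟨rfl, rfl⟩ : (a = a ∧ b' = b') ∨ _)
    rcases dihedral (h.sq hz) (h.sq hbD) with ⟨q, hq, hqz⟩ | ⟨c, hc, hc2, hc1, hcz, hcb, hcD⟩
    · exfalso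
      have hqt : q * (d * a) * q⁻¹ = d * a := by
        rw [← (hq _ cz.symm cb.symm).eq, mul_inv_cancel_right]
      have hconj : IsConj ([z, d, a].prod) ([b'].prod) := by
        refine isConj_iff.mpr ⟨q, ?_⟩
        rw [prod_three', List.prod_singleton, show q * (z * (d * a)) * q⁻¹ = q * z * q⁻¹ * (q * (d * a) * q⁻¹) by group,
          hqz, hqt, e1, ← mul_assoc, h.sq hbD, one_mul]
      have := h.prod_len (Cl.three hz hdD haD hzd hza nda czd cza hda)
        ⟨by simp, by simpa using h2.mem b' (by simp), by simp⟩ (by simp) (by simp) (by simp) hconj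
      simp at this
    obtain ⟨hy'D, hb'D⟩ := hcD D h.conjD hz hbD
    set y' := c * z with hy'
    set b₁ := c * b with hb₁
    have cy'z : Commute y' z := hcz.mul_left (Commute.refl z)
    have cb₁b : Commute b₁ b := hcb.mul_left (Commute.refl b)
    have hcy : c = z * y' := by rw [hy', hcz.eq, ← mul_assoc, h.sq hz, one_mul]
    have hcb' : c = b * b₁ := by rw [hb₁, hcb.eq, ← mul_assoc, h.sq hbD, one_mul]
    have hny'z : y' ≠ z := fun e => hc1 (by rw [hcy, e, h.sq hz])
    have hnb₁ : b₁ ≠ b := fun e => hc1 (by rw [hcb', e, h.sq hbD])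
    have hrel : Rel D d y' := h.step S hdD (Rel.of_comm hz czd.symm) hy'D cy'z.symm
    have force : ∀ {u v : G}, (u = a ∧ v = b') ∨ (u = y ∧ v = x) → y' = d ∨ y' = u := by
      intro u v huv
      obtain ⟨cz', cb', e⟩ := ctb huv
      have huD : u ∈ D := by rcases huv with ⟨rfl, -⟩ | ⟨rfl, -⟩ <;> assumption
      have hvD : v ∈ D := by rcases huv with ⟨-, rfl⟩ | ⟨-, rfl⟩ <;> exact h2.mem _ (by simp)
      have hdu : Commute d u := by rcases huv with ⟨rfl, -⟩ | ⟨rfl, -⟩ <;> assumption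
      have ndu : d ≠ u := by rcases huv with ⟨rfl, -⟩ | ⟨rfl, -⟩ <;> assumption
      have nzu : z ≠ u := by rcases huv with ⟨rfl, -⟩ | ⟨rfl, -⟩ <;> assumption
      have czu : Commute z u := by rcases huv with ⟨rfl, -⟩ | ⟨rfl, -⟩ <;> assumption
      have cbv : Commute b v := by rcases huv with ⟨-, rfl⟩ | ⟨-, rfl⟩ <;> exact h2.comm b (by simp) _ (by simp)
      have cct : Commute c (d * u) := (hc _ cz'.symm cb'.symm).symm
      have cy' : Commute y' (d * u) := cct.mul_left cz'
      obtain ⟨cy'd, cy'u⟩ := h.comm_mul S hdD huD hdu ndu hrel cy'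
      by_contra hne
      push Not at hne
      have cb₁v : Commute b₁ v := by
        have hv : v = b * (d * u) := by rw [e, ← mul_assoc, h.sq hbD, one_mul]
        rw [hv]
        exact cb₁b.mul_right (cct.mul_left cb')
      by_cases hb₁v : b₁ = v
      · have hct : c = d * u := by rw [hcb', hb₁v, e]
        have hconj : IsConj ([z, d, u].prod) ([y'].prod) := by
          rw [prod_three', List.prod_singleton, ← hct, ← hcz.eq]
        have := h.prod_len (Cl.three hz hdD huD hzd nzu ndu czd czu hdu)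
          ⟨by simp, by simpa using hy'D, by simp⟩ (by simp) (by simp) (by simp) hconj
        simp at this
      have hconj : IsConj ([z, y', d, u].prod) ([b₁, v].prod) := by
        rw [prod_four', prod_two', ← mul_assoc, ← hcy, hcb', e,
          cb₁b.symm.eq, mul_assoc, ← mul_assoc b b, h.sq hbD, one_mul]
      have := h.prod_len (Cl.four hz hy'D hdD huD hny'z.symm hzd nzu hne.1 hne.2 ndu cy'z.symm czd czu cy'd cy'u hdu)
        (Cl.two hb'D hvD hb₁v cb₁v) (by simp) (by simp) (by simp) hconj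
      simp at this
    have hy'd : y' = d := by
      rcases force (Or.inl ⟨rfl, rfl⟩ : (a = a ∧ b' = b') ∨ _) with e | e
      · exact e
      rcases force (Or.inr ⟨rfl, rfl⟩ : _ ∨ (y = y ∧ x = x)) with e' | e'
      · exact e'
      exact absurd (e.symm.trans e') nay
    rw [show d * z = c by rw [hcy, hy'd, czd.eq]]
    exact hcb
  obtain ⟨l, α, β, γ, cl, htri, hlα, hlβ⟩ := h.exists_fourth S hdD ⟨haD, (Ne.symm nda), hda⟩ ⟨hyD, (Ne.symm ndy), hdy⟩ nay
    (h1.comm a (by simp) y (by simp))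
  have hfin := Set.toFinite (six E α β γ)
  set m := hfin.toFinset.toList with hm
  have hmem : ∀ u, u ∈ m ↔ u ∈ six E α β γ := fun u => by simp [hm]
  have hlen : m.length = 6 := by
    rw [hm, Finset.length_toList, ← Set.ncard_eq_toFinset_card, ncard_six S htri]
  have hprod := cl.six_prod α β γ htri m (Finset.nodup_toList _) hmem
  have hcd : ∀ u ∈ m.map l, Commute d u := fun u hu => by
    obtain ⟨v, hv, rfl⟩ := List.mem_map.mp hu
    exact (cl.mem v ((hmem v).mp hv).1.1).2.2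
  have hall : Commute b ((m.map l).map fun u => d * u).prod := Commute.list_prod_right _ _ fun w hw => by
    obtain ⟨u, hu, rfl⟩ := List.mem_map.mp hw
    obtain ⟨v, hv, rfl⟩ := List.mem_map.mp hu
    obtain ⟨⟨hvE, hvα, hvβ, -⟩, -⟩ := (hmem v).mp hv
    refine (key _ (cl.mem v hvE).1 (cl.mem v hvE).2.2.symm ?_ ?_).symm
    · rw [← hlα]; exact ((cl.comm α htri.ma v hvE).mpr hvα).symm
    · rw [← hlβ]; exact ((cl.comm β htri.mb v hvE).mpr hvβ).symm
  rw [prod_shift hcd, List.length_map, hlen, hprod, show (6 : ℕ) = 2 * 3 from rfl, pow_mul, pow_two, h.sq hdD, one_pow,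
    one_mul] at hall
  exact hnr (Rel.of_comm hbD hall.symm)

include S h in
/-- whatever commutes with a product of two commuting members lies in their component -/
theorem Host.pair_local {d a k : G} (hl : Cl D [d, a]) (hk : k ∈ D) (hc : Commute k (d * a)) : Rel D d k := by
  by_contra hnk
  have hdD : d ∈ D := hl.mem d (by simp)
  have haD : a ∈ D := hl.mem a (by simp)
  have hda : Commute d a := hl.comm d (by simp) a (by simp)
  have nda : d ≠ a := by simpa using hl.nd
  have hdt : Commute d (d * a) := (Commute.refl d).mul_right hda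
  obtain ⟨l, hL, g1, g3, hprod, hlk⟩ := h.invol k hk (d * a)
    (by rw [hda.symm.mul_mul_mul_comm, h.sq hdD, h.sq haD, one_mul])
    (fun e => nda (by rw [← mul_one d, ← h.sq haD, ← mul_assoc, e, one_mul])) hc.symm
  have hlen := h.prod_len hL hl (by omega) (by simp) (by simp; omega) (by rw [hprod, prod_two'])
  obtain ⟨b₁, b₂, rfl⟩ := List.length_eq_two.mp (by simpa using hlen)
  rw [prod_two'] at hprod
  have hb₁ : b₁ ∈ D := hL.mem b₁ (by simp)
  have hb₂ : b₂ ∈ D := hL.mem b₂ (by simp)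
  have nb : b₁ ≠ b₂ := by simpa using hL.nd
  have cb : Commute b₁ b₂ := hL.comm b₁ (by simp) b₂ (by simp)
  have hkb : Commute b₁ k := hlk b₁ (by simp)
  have hnb : ¬ Rel D d b₁ := fun r => hnk (h.step S hdD r hk hkb)
  obtain ⟨x₁, hx₁, nx1, nx2, cx1, cx2⟩ := h.exists_third S hb₁ ⟨hb₂, nb.symm, cb⟩
  have hxt : Commute x₁ (d * a) := by rw [← hprod]; exact cx1.symm.mul_right cx2.symm
  have hnx : ¬ Rel D d x₁ := fun r => hnb (h.step S hdD r hb₁ cx1.symm)
  have htri : Cl D [x₁, b₁, b₂] := Cl.three hx₁ hb₁ hb₂ nx1 nx2 nb cx1.symm cx2.symm cb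
  have hnoD : ∀ w ∈ D, ¬ IsConj (x₁ * (d * a)) w := fun w hw hcj => by
    have := h.prod_len htri (⟨by simp, by simpa using hw, by simp⟩ : Cl D [w]) (by simp) (by simp) (by simp)
      (by rw [prod_three', hprod, List.prod_singleton]; exact hcj)
    simp at this
  rcases dihedral (h.sq hdD) (h.sq hx₁) with ⟨q, hq, hqd⟩ | ⟨c, hcm, hc2, hc1, hcd, hcx, hcD⟩
  · refine hnoD a haD (isConj_iff.mpr ⟨q⁻¹, ?_⟩)
    have hqt : q * (d * a) * q⁻¹ = d * a := by
      rw [← (hq _ hdt.symm hxt.symm).eq, mul_inv_cancel_right]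
    rw [← hqd]
    nth_rewrite 1 [← hqt]
    rw [show q⁻¹ * (q * d * q⁻¹ * (q * (d * a) * q⁻¹)) * q⁻¹⁻¹ = d * d * a by group, h.sq hdD, one_mul]
  obtain ⟨hyD, hy₁D⟩ := hcD D h.conjD hdD hx₁
  set y := c * d with hy
  set y₁ := c * x₁ with hy₁
  have hct : Commute c (d * a) := (hcm _ hdt.symm hxt.symm).symm
  have hcy : c = d * y := by rw [hy, hcd.eq, ← mul_assoc, h.sq hdD, one_mul]
  have hcy₁ : c = x₁ * y₁ := by rw [hy₁, hcx.eq, ← mul_assoc, h.sq hx₁, one_mul]
  have cyd : Commute y d := hcd.mul_left (Commute.refl d)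
  have cy₁x : Commute y₁ x₁ := hcx.mul_left (Commute.refl x₁)
  have nyd : y ≠ d := fun e => hc1 (by rw [hcy, e, h.sq hdD])
  have ny₁x : y₁ ≠ x₁ := fun e => hc1 (by rw [hcy₁, e, h.sq hx₁])
  have cyt : Commute y (d * a) := hct.mul_left hdt
  have cya : Commute y a := by
    have : a = d * (d * a) := by rw [← mul_assoc, h.sq hdD, one_mul]
    rw [this]; exact cyd.mul_right cyt
  have nya : y ≠ a := fun e => hnoD y₁ hy₁D (by
    rw [show x₁ * (d * a) = y₁ by rw [← e, ← hcy, hy₁, hcx.eq]])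
  have hr₁ : Rel D b₁ y₁ := h.step S hb₁ (Rel.of_comm hx₁ cx1) hy₁D cy₁x.symm
  obtain ⟨cy₁b₁, cy₁b₂⟩ := h.comm_mul S hb₁ hb₂ cb nb hr₁ (by rw [hprod]; exact hct.mul_left hxt)
  have hT : Cl D [d, a, y] := Cl.three hdD haD hyD nda nyd.symm nya.symm hda cyd.symm cya.symm
  rcases (em (y₁ = b₁)) with e | ne1
  · refine h.star S hT (Cl.three hb₁ hb₂ hx₁ nb nx1.symm nx2.symm cb cx1 cx2) hprod.symm ?_ hnb
    rw [← hcy, hcy₁, e, cx1.eq]
  rcases (em (y₁ = b₂)) with e | ne2
  · refine h.star S hT (Cl.three hb₂ hb₁ hx₁ nb.symm nx2.symm nx1.symm cb.symm cx2 cx1)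
      (hprod.symm.trans cb.eq) ?_ fun r => hnb (h.step S hdD r hb₁ cb.symm)
    rw [← hcy, hcy₁, e, cx2.eq]
  have hconj : IsConj [b₁, b₂, x₁, y₁].prod [a, y].prod := by
    rw [prod_four', prod_two', ← mul_assoc, hprod, ← hcy₁, hcy, hda.eq, mul_assoc, ← mul_assoc d d, h.sq hdD, one_mul]
  have := h.prod_len (Cl.four hb₁ hb₂ hx₁ hy₁D nb nx1.symm (Ne.symm ne1) nx2.symm (Ne.symm ne2) ny₁x.symm cb cx1
    cy₁b₁.symm cx2 cy₁b₂.symm cy₁x.symm) (Cl.two haD hyD nya.symm cya.symm) (by simp) (by simp) (by simp) hconj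
  simp at this

include S h in
/-- whatever commutes with a product of three commuting members lies in their component -/
theorem Host.triple_local {d u v k : G} (hl : Cl D [d, u, v]) (hk : k ∈ D) (hc : Commute k (d * (u * v))) :
    Rel D d k := by
  by_contra hnk
  have hdD : d ∈ D := hl.mem d (by simp)
  have hu : u ∈ D := hl.mem u (by simp)
  have hv : v ∈ D := hl.mem v (by simp)
  have cdu : Commute d u := hl.comm d (by simp) u (by simp)
  have cdv : Commute d v := hl.comm d (by simp) v (by simp)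
  have cuv : Commute u v := hl.comm u (by simp) v (by simp)
  have hnd := hl.nd
  simp only [List.nodup_cons, List.mem_cons, List.not_mem_nil, or_false, not_or, List.nodup_nil, and_true,
    not_false_eq_true] at hnd
  obtain ⟨⟨ndu, ndv⟩, nuv⟩ := hnd
  obtain ⟨l, α, β, γ, cl, htri, hlα, hlβ⟩ := h.exists_fourth S hdD ⟨hu, (Ne.symm ndu), cdu⟩ ⟨hv, (Ne.symm ndv), cdv⟩ nuv cuv
  obtain ⟨hxD, nxd, cdx⟩ := cl.mem γ htri.mc
  have cxu : Commute (l γ) u := by rw [← hlα]; exact ((cl.comm α htri.ma γ htri.mc).mpr htri.cac).symm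
  have cxv : Commute (l γ) v := by rw [← hlβ]; exact ((cl.comm β htri.mb γ htri.mc).mpr htri.cbc).symm
  have nxu : l γ ≠ u := fun e => htri.nac (cl.inj γ htri.mc α htri.ma (e.trans hlα.symm)).symm
  have nxv : l γ ≠ v := fun e => htri.nbc (cl.inj γ htri.mc β htri.mb (e.trans hlβ.symm)).symm
  have key : ∀ w ∈ D, Commute d w → Commute w (d * (u * v)) →
      IsConj (k * (d * (u * v))) (w * (d * (u * v))) := by
    intro w hw cdw cwi
    have hnw : ¬ Rel D w k := fun r => hnk (h.rel_trans S hdD (Rel.of_comm hw cdw) r)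
    rcases dihedral (h.sq hw) (h.sq hk) with ⟨q, hq, hqw⟩ | ⟨c, -, hc2, hc1, hcw, hck, hcD⟩
    · refine IsConj.symm (isConj_iff.mpr ⟨q, ?_⟩)
      rw [show q * (w * (d * (u * v))) * q⁻¹ = q * w * q⁻¹ * (q * (d * (u * v)) * q⁻¹) by group, hqw,
        ← (hq _ cwi.symm hc.symm).eq, mul_inv_cancel_right]
    · exfalso
      obtain ⟨hwc, -⟩ := hcD D h.conjD hw hk
      have hcy : c = w * (c * w) := by rw [hcw.eq, ← mul_assoc, h.sq hw, one_mul]
      refine hnw (h.pair_local S (Cl.two hw hwc (fun e => hc1 ?_) (hcw.mul_left (Commute.refl w)).symm) hk ?_)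
      · rw [hcy, ← e, h.sq hw]
      · rw [← hcy]; exact hck.symm
  have h1 := key d hdD (Commute.refl d) ((Commute.refl d).mul_right (cdu.mul_right cdv))
  have h2 := key _ hxD cdx (cdx.symm.mul_right (cxu.mul_right cxv))
  rw [← mul_assoc d d, h.sq hdD, one_mul] at h1
  have := h.prod_len (Cl.four hxD hdD hu hv nxd nxu nxv ndu ndv nuv cdx.symm cxu cxv cdu cdv cuv)
    (Cl.two hu hv nuv cuv) (by simp) (by simp) (by simp) (by
      rw [prod_four', prod_two']; exact h2.symm.trans h1)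
  simp at this

include h in
theorem Host.rel_conj (g : G) {a b : G} (hr : Rel D a b) : Rel D (g * a * g⁻¹) (g * b * g⁻¹) := by
  refine ⟨h.conjD g b hr.1, hr.2.imp (fun hc => (commute_conj_iff g a b).mpr hc) fun ⟨p, hp⟩ =>
    ⟨g * p * g⁻¹, ⟨h.conjD g p hp.1.1, fun e => hp.1.2.1 (by simpa using e), (commute_conj_iff g a p).mpr hp.1.2.2⟩,
      h.conjD g p hp.2.1, fun e => hp.2.2.1 (by simpa using e), (commute_conj_iff g b p).mpr hp.2.2.2⟩⟩

include S h in
theorem Host.odd_component {k : G} (hk : k ∈ D) : Odd (Nat.card {y : G // Rel D k y}) := by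
  classical
  let := Fintype.ofFinite G
  let cls : G → Finset G := fun y => Finset.univ.filter fun z => Rel D y z
  have hsame : ∀ {y z : G}, y ∈ D → Rel D y z → cls z = cls y := fun {y z} hy hyz => by
    ext w
    simp only [cls, Finset.mem_filter, Finset.mem_univ, true_and]
    exact ⟨fun hw => h.rel_trans S hy hyz hw, fun hw => h.rel_trans S hyz.1 (Rel.symm' hy hyz) hw⟩
  have hfib : ∀ K ∈ D.toFinset.image cls,
      (D.toFinset.filter fun y => cls y = K).card = (cls k).card := by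
    intro K hK
    obtain ⟨y, hy, rfl⟩ := Finset.mem_image.mp hK
    rw [Set.mem_toFinset] at hy
    have hset : (D.toFinset.filter fun z => cls z = cls y) = cls y := by
      ext z
      simp only [Finset.mem_filter, Set.mem_toFinset]
      refine ⟨fun hz => ?_, fun hz => ?_⟩
      · rw [← hz.2]
        simp only [cls, Finset.mem_filter, Finset.mem_univ, true_and]
        exact Rel.of_comm hz.1 (Commute.refl z)
      · simp only [cls, Finset.mem_filter, Finset.mem_univ, true_and] at hz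
        exact ⟨hz.1, hsame hy hz⟩
    rw [hset]
    obtain ⟨g, rfl⟩ := isConj_iff.mp (h.trans k hk y hy)
    refine (Finset.card_bij (fun z _ => g * z * g⁻¹) ?_ (fun _ _ _ _ e => mul_left_cancel (mul_right_cancel e)) ?_).symm
    · intro z hz
      simp only [cls, Finset.mem_filter, Finset.mem_univ, true_and] at hz ⊢
      exact h.rel_conj g hz
    · intro z hz
      simp only [cls, Finset.mem_filter, Finset.mem_univ, true_and] at hz
      refine ⟨g⁻¹ * z * g, ?_, by group⟩
      simp only [cls, Finset.mem_filter, Finset.mem_univ, true_and]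
      simpa [mul_assoc] using h.rel_conj g⁻¹ hz
  have e := Finset.card_eq_sum_card_image cls D.toFinset
  rw [Finset.sum_const_nat hfib, ← Set.ncard_eq_toFinset_card'] at e
  have hodd := h.odd
  rw [e, Nat.odd_mul] at hodd
  rw [Nat.card_eq_fintype_card, Fintype.card_subtype]
  exact hodd.2

include S h in
/-- the commuting graph is connected, of diameter two -/
theorem Host.connected {d k : G} (hd : d ∈ D) (hk : k ∈ D) : Rel D d k := by
  classical
  by_contra hnk
  obtain ⟨l, c⟩ := h.chart d hd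
  obtain ⟨e, he, -⟩ := S.refl
  obtain ⟨haD, nad, cda⟩ := c.mem e he
  set a := l e
  have hpair : Cl D [d, a] := Cl.two hd haD nad.symm cda
  have hj2 : d * a * (d * a) = 1 := by rw [cda.symm.mul_mul_mul_comm, h.sq hd, h.sq haD, one_mul]
  rcases dihedral hj2 (h.sq hk) with ⟨q, -, hq⟩ | ⟨c', hcm, hc2, hc1, hcj, hck, -⟩
  · have := h.prod_len hpair (⟨by simp, by simpa using hk, by simp⟩ : Cl D [k]) (by simp) (by simp) (by simp)
      (by rw [prod_two', List.prod_singleton]; exact isConj_iff.mpr ⟨q, hq⟩)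
    simp at this
  obtain ⟨m, hm, m1, m3, hprod, hmk⟩ := h.invol k hk c' hc2 hc1 hck
  match m, m1, m3 with
  | [x], _, _ =>
    rw [List.prod_singleton] at hprod
    subst hprod
    exact hnk (h.step S hd (h.pair_local S hpair (hm.mem x (by simp)) hcj) hk (hmk x (by simp)))
  | x :: x' :: rest, _, m3 =>
    set j := d * a with hj
    have hji : j⁻¹ = j := inv_eq_of_mul_eq_one_right hj2
    have hfix : Rel D x (j * k * j⁻¹) := by
      have hcomm : Commute (j * k * j⁻¹) c' := by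
        have := (commute_conj_iff j k c').mpr hck.symm
        simp only [MulAut.conj_apply] at this
        rwa [show j * c' * j⁻¹ = c' by rw [← hcj.eq, mul_inv_cancel_right]] at this
      have hkj : j * k * j⁻¹ ∈ D := h.conjD j k hk
      match rest, m3 with
      | [], _ => exact h.pair_local S hm hkj (by rwa [← hprod, prod_two'] at hcomm)
      | [z], _ => exact h.triple_local S hm hkj (by rwa [← hprod, prod_three'] at hcomm)
    have hkk : Rel D k (j * k * j⁻¹) :=
      h.rel_trans S hk (Rel.of_comm (hm.mem x (by simp)) (hmk x (by simp)).symm) hfix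
    let W := {y : G // Rel D k y}
    have hW : Odd (Nat.card W) := h.odd_component S hk
    have hstable : ∀ y, Rel D k y → Rel D k (j * y * j⁻¹) := fun y hy =>
      h.rel_trans S hk hkk (h.rel_conj j hy)
    let := Fintype.ofFinite W
    let f : Function.End W := fun y => ⟨j * y.1 * j⁻¹, hstable _ y.2⟩
    have hf : f ^ 2 ^ 1 = 1 := by
      funext y
      refine Subtype.ext ?_
      show j * (j * y.1 * j⁻¹) * j⁻¹ = y.1
      rw [hji, show j * (j * y.1 * j) * j = j * j * y.1 * (j * j) by group, hj2, one_mul, mul_one]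
    haveI : Fact (Nat.Prime 2) := ⟨Nat.prime_two⟩
    have hmod := Equiv.Perm.card_fixedPoints_modEq (f := f) hf
    obtain ⟨⟨y, hy⟩, hyf⟩ : Nonempty (Function.fixedPoints f) := by
      rw [← Fintype.card_pos_iff, pos_iff_ne_zero]
      intro h0
      rw [h0, ← Nat.card_eq_fintype_card] at hmod
      have := Nat.odd_iff.mp hW
      unfold Nat.ModEq at hmod
      omega
    have hy' : j * y * j⁻¹ = y := congrArg Subtype.val hyf
    have := h.pair_local S hpair hy.1 (mul_inv_eq_iff_eq_mul.mp hy').symm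
    exact hnk (h.rel_trans S hd this (Rel.symm' hk hy))

end Cfsg.Agent.Lib.FischerM23C90
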