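import Mathlib
import Cfsg.Agent.Lib.FischerM23C90.Comp
import Cfsg.Agent.Lib.FischerMTypes90.Fusion22

/-!
An involution whose centraliser is a double cover of a group of type M(22) and which is not weakly
closed in it: its conjugates form the setting of `Comp`.
-/

set_option autoImplicit false
set_option linter.style.haveILetI false
set_option linter.unusedSectionVars false

namespace Cfsg.Agent.Lib.FischerM23C90

open Cfsg.Agent.Lib.FischerMTypes.Basic Cfsg.Agent.Lib.FischerMTypes.Primitive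
  Cfsg.Agent.Lib.FischerMTypes.Aut22 Cfsg.Agent.Lib.FischerMTypes.Syl22
  Cfsg.Agent.Lib.FischerMTypes.InvolutionsM22 Cfsg.Agent.Lib.FischerMTypes90
open Cfsg.Agent.Lib.FischerMTypes.TraceCounts (Sys)

variable {G : Type*} [Group G] [Finite G] {Q : Type*} [Group Q] [Finite Q]
variable {E : Set Q} {F : Type} [Field F] [Fintype F]
variable {Cg : Subgroup G} {π : ↥Cg →* Q} {z : ↥Cg}
variable (S : Sys E F)

/-- what the local analysis gives -/
structure Base (Cg : Subgroup G) (E : Set Q) (π : ↥Cg →* Q) (z : ↥Cg) (L : Q → ↥Cg) (B : Set Q)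
    (T : Sylow 2 ↥Cg) (A : Subgroup G) : Prop where
  frame : Frame E π z B A
  sect : Sect E π L
  hB : B = {x | x ∈ E ∧ ∃ t ∈ (T : Subgroup ↥Cg), π t = x}
  cardA : Nat.card A = 2048
  ab : ∀ x ∈ A, ∀ y ∈ A, Commute x y
  Asq : ∀ x ∈ A, x * x = 1
  subT : ∀ x ∈ A, ∃ t ∈ (T : Subgroup ↥Cg), (t : G) = x
  uniq : ∀ g : G, (∀ a ∈ A, ∃ t ∈ (T : Subgroup ↥Cg), (t : G) = g * a * g⁻¹) →
    g ∈ Subgroup.normalizer (A : Set G)
  card23 : (conjIn A (z : G)).ncard = 23
  single : ∀ e ∈ E, IsConj (z : G) (L e : G)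
  class_eq : ∀ x : ↥Cg, IsConj (z : G) (x : G) → x = z ∨ ∃ e ∈ E, x = L e

include S in
theorem exists_base (hmem : ∀ g, g ∈ Cg ↔ Commute g (z : G)) (hC : Cover π z) (hperf : commutator ↥Cg = ⊤)
    (hnwc : ∃ g : G, g * (z : G) * g⁻¹ ∈ Cg ∧ g * (z : G) * g⁻¹ ≠ (z : G)) :
    ∃ (L : Q → ↥Cg) (B : Set Q) (T : Sylow 2 ↥Cg) (A : Subgroup G), Base Cg E π z L B T A := by
  classical
  haveI : Fact (Nat.Prime 2) := ⟨Nat.prime_two⟩
  set T : Sylow 2 ↥Cg := default
  set A := (Cfsg.thompsonSubgroupOf 2 (T : Subgroup ↥Cg)).map Cg.subtype with hAdef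
  obtain ⟨helem, hcard, h23, htrans⟩ := thompson_main S hmem hC hperf hnwc T A hAdef
  set J := Cfsg.thompsonSubgroup 2 ↥(T : Subgroup ↥Cg) with hJ
  have hJcard : Nat.card J = 2048 := by
    rw [show (2048 : ℕ) = 2 ^ 11 by norm_num, ← hcard, hAdef]
    unfold Cfsg.thompsonSubgroupOf
    rw [Nat.card_congr (Subgroup.equivMapOfInjective _ _ Subtype.val_injective).toEquiv.symm,
      Nat.card_congr (Subgroup.equivMapOfInjective _ _ Subtype.val_injective).toEquiv.symm]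
  have hAT : ∀ x ∈ A, ∃ t ∈ (T : Subgroup ↥Cg), (t : G) = x := by
    rintro _ ⟨t, ⟨s, -, rfl⟩, rfl⟩
    exact ⟨s, s.2, rfl⟩
  have huniq : ∀ U : Subgroup ↥Cg, U ≤ (T : Subgroup ↥Cg) → (∀ x ∈ U, ∀ y ∈ U, Commute x y) →
      (∀ x ∈ U, x * x = 1) → Nat.card U = 2048 → U.map Cg.subtype = A := by
    intro U hUT hUc hUs hUcard
    set U' := U.subgroupOf (T : Subgroup ↥Cg) with hU'
    have hcU : Nat.card U' = 2048 := by
      rw [hU', Nat.card_congr (Subgroup.subgroupOfEquivOfLe hUT).toEquiv, hUcard]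
    have hel : Cfsg.IsElementaryAbelian 2 U' :=
      ⟨⟨⟨fun x y => Subtype.ext (Subtype.ext (hUc _ (Subgroup.mem_subgroupOf.mp x.2) _
        (Subgroup.mem_subgroupOf.mp y.2)).eq)⟩⟩,
        fun x hx => Subtype.ext (by
          show (x : ↥Cg) ^ 2 = 1
          rw [pow_two]
          exact hUs _ (Subgroup.mem_subgroupOf.mp hx))⟩
    haveI : Nonempty {V : Subgroup ↥(T : Subgroup ↥Cg) // Cfsg.IsElementaryAbelian 2 V} := ⟨⟨U', hel⟩⟩
    obtain ⟨⟨M, hM⟩, hMmax⟩ :=
      Finite.exists_max fun V : {V : Subgroup ↥(T : Subgroup ↥Cg) // Cfsg.IsElementaryAbelian 2 V} => Nat.card V.1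
    have hMJ : M ≤ J := le_sSup ⟨hM, fun V hV => hMmax ⟨V, hV⟩⟩
    have hU'J : U' ≤ J := le_sSup ⟨hel, fun V hV => (hMmax ⟨V, hV⟩).trans (by
      rw [hcU, ← hJcard]; exact Subgroup.card_le_of_le hMJ)⟩
    have heq : U' = J := SetLike.coe_injective (Set.eq_of_subset_of_ncard_le hU'J (by
      rw [← Nat.card_coe_set_eq, ← Nat.card_coe_set_eq]
      exact (hJcard.trans hcU.symm).le) (Set.toFinite _))
    rw [hAdef]
    unfold Cfsg.thompsonSubgroupOf
    rw [← hJ, ← heq, hU', Subgroup.map_subgroupOf_eq_of_le hUT]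
  -- the base
  set Tb : Sylow 2 Q := T.mapSurjective hC.surj with hTb
  have hB := sylow_base S Tb
  set B := {x : Q | x ∈ E ∧ x ∈ (Tb : Subgroup Q)} with hBdef
  obtain ⟨e, he⟩ : B.Nonempty := Set.nonempty_of_ncard_ne_zero (by rw [hB.card]; norm_num)
  obtain ⟨u₀, hu₀⟩ := hC.surj e
  obtain ⟨L₀, hL₀, -⟩ := exists_sect S hC (A₀ := u₀) (hu₀ ▸ hB.sub he)
  obtain ⟨hab, hsq⟩ := preimage_elementary hC hL₀ hB
  set A0 := (Subgroup.closure B).comap π with hA0
  have hzT : z ∈ (T : Subgroup ↥Cg) := by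
    have hzc : z ∈ Subgroup.center ↥Cg := Subgroup.mem_center_iff.mpr fun y => (hC.central y).symm
    haveI : (Subgroup.zpowers z).Normal := ⟨fun n hn g => by
      rw [Subgroup.mem_center_iff.mp ((Subgroup.zpowers_le.mpr hzc) hn) g, mul_inv_cancel_right]; exact hn⟩
    have h2 : IsPGroup 2 (Subgroup.zpowers z) := by
      refine IsPGroup.of_card (n := 1) ?_
      rw [Nat.card_zpowers, orderOf_eq_prime (p := 2) (by rw [pow_two, hC.sq]) hC.ne, pow_one]
    exact T.is_maximal' (IsPGroup.to_sup_of_normal_right T.isPGroup' h2) le_sup_left ▸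
      Subgroup.mem_sup_right (Subgroup.mem_zpowers z)
  have hA0T : A0 ≤ (T : Subgroup ↥Cg) := by
    intro x hx
    have hx' : π x ∈ (Tb : Subgroup Q) := (Subgroup.closure_le _).mpr (fun y hy => hy.2) hx
    rw [hTb, Sylow.coe_mapSurjective] at hx'
    obtain ⟨s, hs, hsx⟩ := hx'
    rcases hC.eq_or s x hsx.symm with e' | e' <;> rw [e']
    exacts [hs, mul_mem hzT hs]
  have hcard0 : Nat.card A0 = 2048 := by
    rw [← SetLike.coe_sort_coe, Nat.card_coe_set_eq]
    show {x : ↥Cg | π x ∈ (Subgroup.closure B : Set Q)}.ncard = 2048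
    rw [hC.ncard_preimage, ← Nat.card_coe_set_eq]
    show 2 * Nat.card ↥(Subgroup.closure B) = 2048
    rw [card_closure_base S hB]
  have hA : A0.map Cg.subtype = A :=
    huniq A0 hA0T (fun x hx y hy => hab x y hx hy) hsq hcard0
  have hAle : A ≤ Cg := hA ▸ Subgroup.map_subtype_le A0
  have hAmem : ∀ x : ↥Cg, (x : G) ∈ A ↔ π x ∈ Subgroup.closure B := fun x => by
    rw [← hA]
    exact ⟨fun ⟨y, hy, hyx⟩ => Subtype.ext hyx ▸ hy, fun hx => ⟨x, hx, rfl⟩⟩
  have hzA : (z : G) ∈ A := (hAmem z).mpr (by rw [hC.one]; exact one_mem _)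
  have hframe : Frame E π z B A :=
    ⟨hmem, hC, hperf, hB, hAle, hAmem, fun x hx hxc => htrans _ hzA x hx (IsConj.refl _) hxc⟩
  -- the sign of the lifts
  obtain ⟨A₁, hA₁, hA₁X⟩ : ∃ A₁ : ↥Cg, π A₁ = e ∧ (cnt z A₁ = 1 → IsConj (z : G) (A₁ : G)) := by
    by_cases hp : IsConj (z : G) (u₀ : G)
    · exact ⟨u₀, hu₀, fun _ => hp⟩
    · refine ⟨z * u₀, by rw [map_mul, hC.one, one_mul, hu₀], fun hc => ?_⟩
      refine (cnt_one hc).mpr ?_
      rwa [← mul_assoc, hC.sq, one_mul]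
  obtain ⟨L, hL, hLA⟩ := exists_sect S hC (A₀ := A₁) (hA₁ ▸ hB.sub he)
  rw [hA₁] at hLA
  obtain ⟨f, g, -, hf, hg, -, n1, n2, n3, -⟩ := hB.exists_fourth S he
  have hp1 : IsProd E 1 (π (L e)) := by rw [hL.proj e (hB.sub he)]; exact prod_one hB he
  have hp2 : IsProd E 2 (π (L e * L f)) := by
    rw [map_mul, hL.proj e (hB.sub he), hL.proj f (hB.sub hf)]; exact prod_two hB he hf n1
  have hp3 : IsProd E 3 (π (L e * (L f * L g))) := by
    rw [map_mul, map_mul, hL.proj e (hB.sub he), hL.proj f (hB.sub hf), hL.proj g (hB.sub hg)]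
    exact prod_three hB he hf hg n1 n2 n3
  have hpart : ∀ u v : ↥Cg, ∀ m, 1 ≤ m → m ≤ 3 → IsProd E m (π u) → IsProd E m (π v) → cnt z u = cnt z v :=
    fun u v m p q hu hv => cnt_conj hframe (isConj_prod S p q hu hv)
  have hX := ncard_conjIn S hframe (fun u hu => hpart u _ 1 le_rfl (by norm_num) hu.2 hp1)
    (fun u hu => hpart u _ 2 (by norm_num) (by norm_num) hu.2 hp2)
    (fun u hu => hpart u _ 3 (by norm_num) le_rfl hu.2 hp3)
  rw [h23] at hX
  have hsingle : ∀ x ∈ E, IsConj (z : G) (L x : G) := by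
    intro x hx
    obtain ⟨q, hq⟩ := S.hprim.1 e (hB.sub he) x hx
    obtain ⟨Y, rfl⟩ := hC.surj q
    rw [← hq, ← hL.conj e (hB.sub he) Y, isConj_conj_iff, hLA]
    refine hA₁X ?_
    rw [← hLA]
    omega
  refine ⟨L, B, T, A, hframe, hL, ?_, by rw [hcard]; norm_num, fun x hx y hy => ?_, fun x hx => ?_, hAT, ?_, h23,
    hsingle, fun x hx => ?_⟩
  · rw [hBdef, hTb, Sylow.coe_mapSurjective]
    rfl
  · exact congrArg Subtype.val (helem.1.is_comm.comm ⟨x, hx⟩ ⟨y, hy⟩)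
  · rw [← pow_two]; exact helem.2 x hx
  · intro k hk
    set φ : ↥Cg →* G := (MulAut.conj k⁻¹).toMonoidHom.comp Cg.subtype with hφdef
    have hφ : ∀ w : ↥Cg, φ w = k⁻¹ * (w : G) * k := fun w => by simp [hφdef]
    set U := A.comap φ ⊓ (T : Subgroup ↥Cg) with hU
    have hUmem : ∀ {w : ↥Cg}, w ∈ U ↔ k⁻¹ * (w : G) * k ∈ A ∧ w ∈ (T : Subgroup ↥Cg) := fun {w} => by
      rw [hU, Subgroup.mem_inf, Subgroup.mem_comap, hφ]
    have hUcard : Nat.card U = 2048 := by
      rw [show (2048 : ℕ) = 2 ^ 11 by norm_num, ← hcard]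
      choose t ht hte using fun a : ↥A => hk a a.2
      refine Nat.card_congr
        { toFun := fun w => ⟨_, (hUmem.mp w.2).1⟩
          invFun := fun a => ⟨t a, hUmem.mpr ⟨?_, ht a⟩⟩
          left_inv := fun w => Subtype.ext (Subtype.ext ?_)
          right_inv := fun a => Subtype.ext ?_ }
      · rw [hte, show k⁻¹ * (k * (a : G) * k⁻¹) * k = (a : G) by group]
        exact a.2
      · rw [hte]; group
      · show k⁻¹ * (t a : G) * k = a
        rw [hte]; group
    have hinj : Function.Injective φ := fun v w e' => Subtype.ext (by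
      rw [hφ, hφ] at e'; exact mul_left_cancel (mul_right_cancel e'))
    have hUA := huniq U inf_le_right (fun v hv w hw => hinj (by
        rw [map_mul, map_mul, hφ, hφ]
        exact congrArg Subtype.val (helem.1.is_comm.comm ⟨_, (hUmem.mp hv).1⟩ ⟨_, (hUmem.mp hw).1⟩)))
      (fun v hv => hinj (by rw [map_mul, map_one, hφ, ← pow_two]; exact helem.2 _ (hUmem.mp hv).1)) hUcard
    refine Subgroup.mem_normalizer_iff.mpr fun a => ⟨fun ha => ?_, fun ha => ?_⟩
    · obtain ⟨t, ht, hte⟩ := hk a ha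
      rw [← hUA]
      exact ⟨t, hUmem.mpr ⟨by rw [hte, show k⁻¹ * (k * a * k⁻¹) * k = a by group]; exact ha, ht⟩, hte⟩
    · rw [← hUA] at ha
      obtain ⟨w, hw, hwe⟩ := ha
      have := (hUmem.mp hw).1
      rwa [show k⁻¹ * (w : G) * k = a by rw [show (w : G) = k * a * k⁻¹ from hwe]; group] at this
  · by_cases h1 : π x = 1
    · rcases hC.ker x h1 with e' | e'
      · exact absurd (e' ▸ hx) (not_isConj_one hframe)
      · exact Or.inl e'
    refine Or.inr ?_
    have hx2 : x * x = 1 := Subtype.ext (by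
      obtain ⟨k, hk⟩ := isConj_iff.mp hx
      rw [Subgroup.coe_mul, ← hk, show k * (z : G) * k⁻¹ * (k * (z : G) * k⁻¹) = k * ((z * z : ↥Cg) : G) * k⁻¹ by
        push_cast; group, hC.sq]
      simp)
    obtain ⟨m, hm1, hm3, hm⟩ :=
      (three_classes S).1 (π x) (orderOf_eq_prime (by rw [pow_two, ← map_mul, hx2, map_one]) h1)
    have hcnt : cnt z x ≠ 0 := fun h0 => (cnt_zero h0).1 hx
    interval_cases m
    · obtain ⟨l, hnd, hlen, hlE, -, hlp⟩ := id hm
      obtain ⟨y, rfl⟩ := List.length_eq_one_iff.mp hlen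
      simp only [List.prod_cons, List.prod_nil, mul_one] at hlp
      have hxE : π x ∈ E := by rw [← hlp]; exact hlE y (by simp)
      refine ⟨π x, hxE, ?_⟩
      rcases hC.eq_or (L (π x)) x (hL.proj _ hxE).symm with e' | e'
      · exact e'
      · exfalso
        have hc1 : cnt z (L (π x)) = 1 := by
          rw [hpart (L (π x)) (L e) 1 le_rfl (by norm_num) (by rw [hL.proj _ hxE]; exact hm) hp1]
          omega
        exact (cnt_one hc1).mp (hsingle _ hxE) (e' ▸ hx)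
    · exact absurd (hpart x _ 2 (by norm_num) (by norm_num) hm hp2) (by omega)
    · exact absurd (hpart x _ 3 (by norm_num) le_rfl hm hp3) (by omega)

end Cfsg.Agent.Lib.FischerM23C90
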