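import Mathlib
import Cfsg.Agent.Lib.FischerM23C90.Setup

/-!
The conjugates of an involution with centraliser a double cover of a group of type M(22): charts,
cliques and short products, and the resulting connected class of 3-transpositions.
-/

set_option autoImplicit false
set_option linter.style.haveILetI false
set_option linter.unusedSectionVars false

namespace Cfsg.Agent.Lib.FischerM23C90

open Cfsg.Agent.Lib.FischerMTypes.Basic Cfsg.Agent.Lib.FischerMTypes.Primitive
  Cfsg.Agent.Lib.FischerMTypes.Aut22 Cfsg.Agent.Lib.FischerMTypes.Syl22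
  Cfsg.Agent.Lib.FischerMTypes.InvolutionsM22 Cfsg.Agent.Lib.FischerMTypes90
open Cfsg.Agent.Lib.FischerMTypes.TraceCounts (Sys)
open scoped commutatorElement

variable {G : Type*} [Group G] [Finite G] {Q : Type*} [Group Q] [Finite Q]
variable {E : Set Q} {F : Type} [Field F] [Fintype F]
variable {Cg : Subgroup G} {π : ↥Cg →* Q} {z : ↥Cg}
variable {L : Q → ↥Cg} {B : Set Q} {T : Sylow 2 ↥Cg} {A : Subgroup G}
variable (S : Sys E F) (b : Base Cg E π z L B T A)

local notation "D₀" => conjugatesOf (z : G)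

theorem mem_D {x : G} : x ∈ D₀ ↔ IsConj (z : G) x := Iff.rfl

theorem conjD (g : G) : ∀ x ∈ D₀, g * x * g⁻¹ ∈ D₀ := fun _ hx =>
  IsConj.trans hx (isConj_iff.mpr ⟨g, rfl⟩)

include b in
theorem order_D : ∀ x ∈ D₀, orderOf x = 2 := by
  intro x hx
  obtain ⟨g, rfl⟩ := isConj_iff.mp hx
  rw [← MulAut.conj_apply]
  rw [show MulAut.conj g (z : G) = (MulAut.conj g).toMonoidHom (z : G) from rfl,
    orderOf_injective _ (MulAut.conj g).injective, Subgroup.orderOf_coe,
    orderOf_eq_prime (p := 2) (by rw [pow_two, b.frame.cover.sq]) b.frame.cover.ne]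

include b in
theorem comm_z (x : ↥Cg) : Commute (z : G) (x : G) := (((b.frame.mem (x : G)).mp x.2)).symm

include S b in
theorem chart_self : Chart D₀ E (z : G) (fun e => (L e : G)) := by
  have hL := b.sect
  have hC := b.frame.cover
  refine ⟨fun e he => ⟨b.single e he, fun h => ?_, comm_z b _⟩, ?_, ?_, ?_, ?_, ?_⟩
  · exact ne_one S.hD.1 he (by rw [← hL.proj e he, Subtype.ext h, hC.one])
  · rintro x ⟨hx, hne, hc⟩
    rcases b.class_eq ⟨x, (b.frame.mem x).mpr hc.symm⟩ hx with h | ⟨e, he, h⟩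
    · exact absurd (congrArg Subtype.val h) hne
    · exact ⟨e, he, (congrArg Subtype.val h).symm⟩
  · intro e he f hf h
    rw [← hL.proj e he, Subtype.ext h, hL.proj f hf]
  · intro e he f hf
    refine ⟨fun h => ?_, fun h => (hL.comm e he f hf h).map Cg.subtype⟩
    have h' : Commute (L e) (L f) := Subtype.ext h.eq
    have := h'.map π
    rwa [hL.proj e he, hL.proj f hf] at this
  · intro e he f hf hef
    have key : ∀ u ∈ E, ∀ v ∈ E, L u * L v * L u = L (u * v * u) := fun u hu v hv => by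
      have hi : (L u)⁻¹ = L u := inv_eq_of_mul_eq_one_right (hL.sq u hu)
      have := hL.conj v hv (L u)
      rwa [hi, hL.proj u hu, inv_eq S.hD.1 hu] at this
    have hbr : L e * L f * L e = L f * L e * L f := by
      rw [key e he f hf, key f hf e he, braid S.hD.1 he hf hef]
    have h1 : (L e * L f) ^ 3 = 1 := by
      calc (L e * L f) ^ 3 = (L e * L f * L e) * (L f * L e * L f) := by
            rw [pow_succ, pow_two]; group
        _ = (L f * L e * L f) * (L f * L e * L f) := by rw [hbr]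
        _ = L f * L e * (L f * L f) * L e * L f := by group
        _ = 1 := by rw [hL.sq f hf, mul_one, mul_assoc (L f) (L e) (L e), hL.sq e he, mul_one, hL.sq f hf]
    exact congrArg Subtype.val h1
  · intro e f g h m hnd hm
    obtain ⟨p, q, r, h', hset, hnd', hprod, he⟩ := six_prod S hC hL b.frame.perf h
    have hperm : [e, f, g, p, q, r].Perm m := (List.perm_ext_iff_of_nodup hnd' hnd).mpr fun x => by
      rw [hm, hset]; simp
    have hEm : ∀ x ∈ [e, f, g, p, q, r], x ∈ E := fun x hx => ((hm x).mp (hperm.subset hx)).1.1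
    have hcm : ∀ x ∈ [e, f, g, p, q, r], ∀ y ∈ [e, f, g, p, q, r], Commute x y := fun x hx y hy =>
      ((hm x).mp (hperm.subset hx)).2 y ((hm y).mp (hperm.subset hy)).1
    have hz := hL.perm_prod hperm hEm hcm
    have h6 : ([e, f, g, p, q, r].map L).prod = z := by
      have hX : L p * (L q * L r) * (L p * (L q * L r)) = 1 := by
        have c1 := hL.comm _ h'.ma _ h'.mb h'.cab
        have c2 := hL.comm _ h'.ma _ h'.mc h'.cac
        have c3 := hL.comm _ h'.mb _ h'.mc h'.cbc
        rw [(c1.mul_right c2).symm.mul_mul_mul_comm, hL.sq _ h'.ma, one_mul, c3.symm.mul_mul_mul_comm,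
          hL.sq _ h'.mb, hL.sq _ h'.mc, one_mul]
      simp only [List.map_cons, List.map_nil, List.prod_cons, List.prod_nil, mul_one]
      calc L e * (L f * (L g * (L p * (L q * L r)))) = L e * (L f * L g) * (L p * (L q * L r)) := by group
        _ = z * (L p * (L q * L r) * (L p * (L q * L r))) := by rw [hprod]; group
        _ = z := by rw [hX, mul_one]
    show (m.map (Cg.subtype ∘ L)).prod = (z : G)
    rw [← List.map_map, ← map_list_prod, ← hz, h6]
    rfl

include S b in
theorem chart_all : ∀ a ∈ D₀, ∃ l, Chart D₀ E a l := by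
  intro a ha
  obtain ⟨g, rfl⟩ := isConj_iff.mp ha
  have c := chart_self S b
  refine ⟨fun e => g * (L e : G) * g⁻¹, ?_, ?_, ?_, ?_, ?_, ?_⟩
  · intro e he
    obtain ⟨h1, h2, h3⟩ := c.mem e he
    exact ⟨conjD g _ h1, fun h => h2 (mul_left_cancel (mul_right_cancel h)), (commute_conj_iff g _ _).mpr h3⟩
  · rintro x ⟨hx, hne, hc⟩
    obtain ⟨e, he, h⟩ := c.surj (g⁻¹ * x * g) ⟨by simpa using conjD g⁻¹ x hx, fun h => hne (by rw [← h]; group), by
      have := (commute_conj_iff g⁻¹ _ _).mpr hc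
      simp only [MulAut.conj_apply, inv_inv] at this
      rwa [show g⁻¹ * (g * (z : G) * g⁻¹) * g = (z : G) by group] at this⟩
    exact ⟨e, he, by rw [h]; group⟩
  · intro e he f hf h
    exact c.inj e he f hf (mul_left_cancel (mul_right_cancel h))
  · intro e he f hf
    exact (commute_conj_iff g _ _).trans (c.comm e he f hf)
  · intro e he f hf hef
    rw [show g * (L e : G) * g⁻¹ * (g * (L f : G) * g⁻¹) = g * ((L e : G) * L f) * g⁻¹ by group, conj_pow,
      c.braid e he f hf hef, mul_one, mul_inv_cancel]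
  · intro e f k h m hnd hm
    have := congrArg (MulAut.conj g) (c.six_prod e f k h m hnd hm)
    rwa [map_list_prod, List.map_map] at this

include S b in
theorem odd_D : Odd (conjugatesOf (z : G)).ncard := by
  classical
  haveI : Fact (Nat.Prime 2) := ⟨Nat.prime_two⟩
  set Tg : Subgroup G := (T : Subgroup ↥Cg).map Cg.subtype with hTg
  obtain ⟨P, hP⟩ := (show IsPGroup 2 Tg from T.isPGroup'.map _).exists_le_sylow
  have heq : (P : Subgroup G) = Tg := by
    by_contra hne
    have hlt : Tg.subgroupOf (P : Subgroup G) < ⊤ := by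
      refine lt_top_iff_ne_top.mpr fun h => hne (le_antisymm ?_ hP)
      exact Subgroup.subgroupOf_eq_top.mp h
    haveI := P.isPGroup'.isNilpotent
    obtain ⟨n, hn, hnT⟩ := SetLike.exists_of_lt (Group.normalizerCondition_of_isNilpotent _ hlt)
    rw [Subgroup.mem_subgroupOf] at hnT
    have hnorm : ∀ t ∈ Tg, (n : G) * t * (n : G)⁻¹ ∈ Tg := fun t ht => by
      have := (Subgroup.mem_normalizer_iff.mp hn ⟨t, hP ht⟩).mp (Subgroup.mem_subgroupOf.mpr ht)
      exact Subgroup.mem_subgroupOf.mp this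
    have hN : (n : G) ∈ Subgroup.normalizer (A : Set G) := b.uniq _ fun a ha => hnorm a (by
      obtain ⟨t, ht, rfl⟩ := b.subT a ha; exact ⟨t, ht, rfl⟩)
    have hzA : (z : G) ∈ A := (b.frame.hA z).mpr (by rw [b.frame.cover.one]; exact one_mem _)
    have hx : (n : G) * (z : G) * (n : G)⁻¹ ∈ A := (Subgroup.mem_normalizer_iff.mp hN _).mp hzA
    have hxc : ∀ t ∈ Tg, Commute t ((n : G) * (z : G) * (n : G)⁻¹) := by
      have hsub : (fun t => (n : G) * t * (n : G)⁻¹) '' (Tg : Set G) = Tg := Set.eq_of_subset_of_ncard_le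
        (by rintro _ ⟨t, ht, rfl⟩; exact hnorm t ht)
        (by rw [Set.ncard_image_of_injective _ fun v w e => mul_left_cancel (mul_right_cancel e)]) (Set.toFinite _)
      intro t ht
      obtain ⟨s, ⟨s', -, rfl⟩, rfl⟩ := hsub.symm ▸ (show t ∈ (Tg : Set G) from ht)
      exact (commute_conj_iff (n : G) _ _).mpr (comm_z b s').symm
    rcases b.class_eq ⟨_, b.frame.sub hx⟩ (isConj_iff.mpr ⟨n, rfl⟩) with h | ⟨e, he, h⟩
    · have hnC : (n : G) ∈ Cg := (b.frame.mem _).mpr (mul_inv_eq_iff_eq_mul.mp (congrArg Subtype.val h))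
      have hP2 : IsPGroup 2 ↥((P : Subgroup G).subgroupOf Cg) :=
        P.isPGroup'.comap_of_injective Cg.subtype Subtype.val_injective
      have hmax := T.is_maximal' hP2 fun t ht => hP ⟨t, ht, rfl⟩
      exact hnT (Subgroup.mem_map.mpr ⟨⟨n, hnC⟩, hmax ▸ (show (⟨n, hnC⟩ : ↥Cg) ∈ (P : Subgroup G).subgroupOf Cg from n.2), rfl⟩)
    · set Tb : Sylow 2 Q := T.mapSurjective b.frame.cover.surj with hTb
      have hle : (Tb : Subgroup Q) ≤ Subgroup.centralizer ({e} : Set Q) := by
        intro q hq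
        rw [hTb, Sylow.coe_mapSurjective] at hq
        obtain ⟨t, ht, rfl⟩ := hq
        have hc : Commute t (L e) := Subtype.ext (by
          rw [Subgroup.coe_mul, Subgroup.coe_mul, ← h]; exact (hxc t ⟨t, ht, rfl⟩).eq)
        have := hc.map π
        rw [b.sect.proj e he] at this
        exact Subgroup.mem_centralizer_singleton_iff.mpr this.eq
      have hdvd := Subgroup.index_dvd_of_le hle
      have hcls : {y : Q | IsConj e y} = E := Set.ext fun y => ⟨fun hy => by
          obtain ⟨g, rfl⟩ := isConj_iff.mp hy; exact S.hD.2.1 g e he,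
        fun hy => isConj_iff.mpr (S.hprim.1 e he y hy)⟩
      have hidx : (Subgroup.centralizer ({e} : Set Q)).index = 3510 := by
        have h1 := FischerMTypes.TripleCentralizer.card_mul_card_class e
        rw [hcls, FischerMTypes.TraceSize.ncard_class S, ← Subgroup.card_mul_index (Subgroup.centralizer ({e} : Set Q))] at h1
        exact (Nat.eq_of_mul_eq_mul_left Nat.card_pos h1).symm
      rw [hidx] at hdvd
      exact Tb.not_dvd_index ((show 2 ∣ 3510 by norm_num).trans hdvd)
  have hCg : Cg = Subgroup.centralizer ({(z : G)} : Set G) := Subgroup.ext fun g => by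
    rw [Subgroup.mem_centralizer_singleton_iff, b.frame.mem]; exact Iff.rfl
  have h1 := FischerMTypes.TripleCentralizer.card_mul_card_class (z : G)
  rw [← hCg, ← Subgroup.card_mul_index Cg] at h1
  rw [show (conjugatesOf (z : G)).ncard = Cg.index from Nat.eq_of_mul_eq_mul_left Nat.card_pos h1]
  rw [Nat.odd_iff, ← Nat.two_dvd_ne_zero]
  intro h2
  refine P.not_dvd_index (h2.trans (Subgroup.index_dvd_of_le ?_))
  rw [heq, hTg]
  exact Subgroup.map_subtype_le _

include S b in
/-- the setting of `Comp` -/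
theorem host : Host D₀ E A (conjIn A (z : G)) := by
  classical
  haveI : Fact (Nat.Prime 2) := ⟨Nat.prime_two⟩
  have hC := b.frame.cover
  have hL := b.sect
  have hB := b.frame.base
  have hzA : (z : G) ∈ conjIn A (z : G) := self_mem b.frame
  have hLA : ∀ e ∈ B, (L e : G) ∈ conjIn A (z : G) := fun e he =>
    ⟨(b.frame.hA _).mpr (lift_mem b.frame he (hL.proj e (hB.sub he))), b.single e (hB.sub he)⟩
  have hzne : ∀ e ∈ B, (z : G) ≠ L e := fun e he h => ne_one S.hD.1 (hB.sub he) (by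
    rw [← hL.proj e (hB.sub he), ← Subtype.ext h, hC.one])
  have hinj : ∀ {e f : Q}, e ∈ B → f ∈ B → e ≠ f → (L e : G) ≠ L f := fun he hf hne h => hne (by
    rw [← hL.proj _ (hB.sub he), Subtype.ext h, hL.proj _ (hB.sub hf)])
  have hshort : ∀ t ∈ A, ∃ l : List G, l.Nodup ∧ (∀ x ∈ l, x ∈ conjIn A (z : G)) ∧ l.length ≤ 3 ∧ l.prod = t := by
    intro t ht
    obtain ⟨u, rfl, hu⟩ := elem_cases S b.frame hL ht
    rcases hu with rfl | h1 | ⟨e, he, rfl | rfl⟩ | ⟨e, he, f, hf, hne, rfl | rfl⟩ | hu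
    · exact ⟨[], by simp, by simp, by simp, by simp⟩
    · exact ⟨[(z : G)], by simp, by simpa using hzA, by simp, by simp [h1]⟩
    · exact ⟨[(L e : G)], by simp, by simpa using hLA e he, by simp, by simp⟩
    · exact ⟨[(z : G), (L e : G)], by simpa using hzne e he, by simp [hzA, hLA e he], by simp, by simp⟩
    · exact ⟨[(L e : G), (L f : G)], by simpa using hinj he hf hne, by simp [hLA e he, hLA f hf], by simp, by simp⟩
    · exact ⟨[(z : G), (L e : G), (L f : G)], by simp [hzne e he, hzne f hf, hinj he hf hne],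
        by simp [hzA, hLA e he, hLA f hf], by simp, by simp⟩
    · rcases base_elem S hB hu.1 with h1 | h1 | ⟨e, he, f, hf, hne, h1⟩ | ⟨e, he, f, hf, g, hg, n1, n2, n3, h1⟩
      · exact absurd (order_two S (by norm_num) le_rfl hu.2) (by rw [h1, orderOf_one]; norm_num)
      · exact absurd (m_unique S (by norm_num) le_rfl le_rfl (by norm_num) hu.2 (prod_one hB h1)) (by norm_num)
      · exact absurd (m_unique S (by norm_num) le_rfl (by norm_num) (by norm_num) hu.2
          (h1 ▸ prod_two hB he hf hne)) (by norm_num)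
      · have hpu : π (L e * (L f * L g)) = π u := by
          rw [h1, map_mul, map_mul, hL.proj e (hB.sub he), hL.proj f (hB.sub hf), hL.proj g (hB.sub hg)]
        rcases hC.eq_or _ u hpu.symm with h2 | h2
        · exact ⟨[(L e : G), (L f : G), (L g : G)], by simp [hinj he hf n1, hinj he hg n2, hinj hf hg n3],
            by simp [hLA e he, hLA f hf, hLA g hg], by simp, by rw [h2]; simp⟩
        · obtain ⟨p, q, r, ht', hset, hnd, hprod, -⟩ := six_prod S hC hL b.frame.perf (hB.tri he hf hg n1 n2 n3)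
          have h6 : ∀ x ∈ ({e, f, g, p, q, r} : Set Q), x ∈ B := fun x hx => hB.closed S he hf hg (hset ▸ hx)
          have hp := h6 p (by simp)
          have hq := h6 q (by simp)
          have hr := h6 r (by simp)
          refine ⟨[(L p : G), (L q : G), (L r : G)], by simp [hinj hp hq ht'.nab, hinj hp hr ht'.nac, hinj hq hr ht'.nbc],
            by simp [hLA p hp, hLA q hq, hLA r hr], by simp, ?_⟩
          rw [h2, hprod, ← mul_assoc z z, hC.sq, one_mul]
          simp
  have hsylow : ∀ P : Subgroup G, IsPGroup 2 P → ∃ h : G, ∀ x ∈ P, ∃ t ∈ (T : Subgroup ↥Cg), (t : G) = h * x * h⁻¹ := by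
    intro P hP
    have hTp : IsPGroup 2 ((T : Subgroup ↥Cg).map Cg.subtype) := T.isPGroup'.map _
    obtain ⟨R, hR⟩ := hP.exists_le_sylow
    obtain ⟨R', hR'⟩ := hTp.exists_le_sylow
    have hR'eq : (R' : Subgroup G) = (T : Subgroup ↥Cg).map Cg.subtype := by
      refine (SetLike.coe_injective (Set.eq_of_subset_of_ncard_le hR' ?_ (Set.toFinite _))).symm
      have hodd := odd_D S b
      have h1 := FischerMTypes.TripleCentralizer.card_mul_card_class (z : G)
      have hCg : Cg = Subgroup.centralizer ({(z : G)} : Set G) := Subgroup.ext fun g => by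
        rw [Subgroup.mem_centralizer_singleton_iff, b.frame.mem]; exact Iff.rfl
      rw [← hCg] at h1
      rw [← Nat.card_coe_set_eq, ← Nat.card_coe_set_eq]
      show Nat.card R' ≤ Nat.card ((T : Subgroup ↥Cg).map Cg.subtype)
      rw [Nat.card_congr ((T : Subgroup ↥Cg).equivMapOfInjective _ Subtype.val_injective).toEquiv.symm]
      obtain ⟨k, hk⟩ := R'.isPGroup'.exists_card_eq
      have hdvd : 2 ^ k ∣ Nat.card ↥Cg * (conjugatesOf (z : G)).ncard := by
        rw [← hk]; exact h1 ▸ Subgroup.card_subgroup_dvd_card _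
      rw [hk]
      refine Nat.le_of_dvd Nat.card_pos ?_
      exact T.pow_dvd_card_of_pow_dvd_card ((Nat.Coprime.pow_left k
        (Nat.coprime_two_left.mpr hodd)).dvd_of_dvd_mul_right hdvd)
    obtain ⟨h, hh⟩ := MulAction.exists_smul_eq G R R'
    refine ⟨h, fun x hx => ?_⟩
    have hmem : MulAut.conj h x ∈ (R' : Subgroup G) := by
      rw [← hh]; exact Subgroup.smul_mem_pointwise_smul _ (MulAut.conj h) _ (hR hx)
    rw [hR'eq] at hmem
    obtain ⟨t, ht, hte⟩ := hmem
    exact ⟨t, ht, hte⟩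
  have hfusion : ∀ s ∈ A, ∀ t ∈ A, IsConj s t → ∃ n ∈ Subgroup.normalizer (A : Set G), n * s * n⁻¹ = t := by
    intro s hs t ht hst
    obtain ⟨g, hg⟩ := isConj_iff.mp hst
    set K := Subgroup.centralizer ({t} : Set G)
    have hA2 : IsPGroup 2 A := IsPGroup.of_card (n := 11) (by rw [b.cardA]; norm_num)
    have hAK : A ≤ K := fun a ha => Subgroup.mem_centralizer_singleton_iff.mpr (b.ab a ha t ht).eq
    have hA'K : A.map (MulAut.conj g).toMonoidHom ≤ K := by
      rintro _ ⟨a, ha, rfl⟩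
      refine Subgroup.mem_centralizer_singleton_iff.mpr ?_
      show g * a * g⁻¹ * t = t * (g * a * g⁻¹)
      rw [← hg]
      exact ((commute_conj_iff g a s).mpr (b.ab a ha s hs)).eq
    obtain ⟨S1, hS1⟩ := (hA2.comap_of_injective K.subtype Subtype.val_injective).exists_le_sylow
    obtain ⟨S2, hS2⟩ :=
      ((hA2.map (MulAut.conj g).toMonoidHom).comap_of_injective K.subtype Subtype.val_injective).exists_le_sylow
    obtain ⟨k, hk⟩ := MulAction.exists_smul_eq ↥K S2 S1
    obtain ⟨u, hu⟩ := hsylow _ (S1.isPGroup'.map K.subtype)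
    have n1 : u ∈ Subgroup.normalizer (A : Set G) := b.uniq u fun a ha => hu a ⟨⟨a, hAK ha⟩, hS1 ha, rfl⟩
    have n2 : u * ((k : G) * g) ∈ Subgroup.normalizer (A : Set G) := b.uniq _ fun a ha => by
      have h2 : (⟨g * a * g⁻¹, hA'K ⟨a, ha, rfl⟩⟩ : ↥K) ∈ (S2 : Subgroup ↥K) := hS2 ⟨a, ha, rfl⟩
      have h3 : k * ⟨g * a * g⁻¹, hA'K ⟨a, ha, rfl⟩⟩ * k⁻¹ ∈ (S1 : Subgroup ↥K) := by
        rw [← hk]; exact Subgroup.smul_mem_pointwise_smul _ (MulAut.conj k) _ h2
      obtain ⟨t', ht', he⟩ := hu _ ⟨_, h3, rfl⟩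
      refine ⟨t', ht', he.trans ?_⟩
      show u * ((k : G) * (g * a * g⁻¹) * (k : G)⁻¹) * u⁻¹ = _
      group
    refine ⟨(k : G) * g, ?_, ?_⟩
    · have := mul_mem (inv_mem n1) n2
      rwa [inv_mul_cancel_left] at this
    · rw [show (k : G) * g * s * ((k : G) * g)⁻¹ = (k : G) * (g * s * g⁻¹) * (k : G)⁻¹ by group, hg,
        Subgroup.mem_centralizer_singleton_iff.mp k.2, mul_inv_cancel_right]
  have hcliq : ∀ l : List G, Cl D₀ l → l.length ≤ 4 → ∃ g : G, ∀ x ∈ l, g * x * g⁻¹ ∈ conjIn A (z : G) := by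
    intro l hl _
    match l, hl with
    | [], _ => exact ⟨1, by simp⟩
    | k :: rest, hl =>
      obtain ⟨g₀, hg₀⟩ := isConj_iff.mp (IsConj.symm (hl.mem k (by simp)))
      have hrest : ∀ x ∈ rest, ∃ e ∈ E, (L e : G) = g₀ * x * g₀⁻¹ := fun x hx =>
        (chart_self S b).surj _ ⟨conjD g₀ x (hl.mem x (List.mem_cons_of_mem _ hx)), fun e => by
          have hxk : x = k := mul_left_cancel (mul_right_cancel (e.trans hg₀.symm))
          exact (List.nodup_cons.mp hl.nd).1 (hxk ▸ hx), hg₀ ▸ (commute_conj_iff g₀ k x).mpr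
            (hl.comm k (by simp) x (List.mem_cons_of_mem _ hx))⟩
      set Y : Set Q := {e | e ∈ E ∧ ∃ x ∈ rest, (L e : G) = g₀ * x * g₀⁻¹}
      obtain ⟨B', hB', hYB⟩ := exists_base_of_clique S (X := Y) (fun e he => he.1) (by
        rintro e ⟨he, x, hx, hex⟩ f ⟨hf, y, hy, hfy⟩
        refine ((chart_self S b).comm e he f hf).mp ?_
        show Commute (L e : G) (L f : G)
        rw [hex, hfy]
        exact (commute_conj_iff g₀ x y).mpr (hl.comm x (List.mem_cons_of_mem _ hx) y (List.mem_cons_of_mem _ hy)))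
      obtain ⟨q, hq⟩ := bases_conj S hB' hB
      obtain ⟨W, rfl⟩ := hC.surj q
      refine ⟨(W : G) * g₀, fun x hx => ?_⟩
      rw [show (W : G) * g₀ * x * ((W : G) * g₀)⁻¹ = (W : G) * (g₀ * x * g₀⁻¹) * (W : G)⁻¹ by group]
      rcases List.mem_cons.mp hx with rfl | hx
      · rw [hg₀, ← (comm_z b W).eq, mul_inv_cancel_right]; exact hzA
      · obtain ⟨e, he, hex⟩ := hrest x hx
        rw [← hex, ← Subgroup.coe_inv, ← Subgroup.coe_mul, ← Subgroup.coe_mul, hL.conj e he W]
        exact hLA _ (hq e (hYB ⟨he, x, hx, hex⟩))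
  refine ⟨conjD, order_D b, fun x hx y hy => IsConj.trans (IsConj.symm hx) hy, odd_D S b, chart_all S b, rfl,
    b.card23, b.cardA, b.ab, b.Asq, hshort, hfusion, hcliq, ?_⟩
  intro k hk t ht2 ht1 htk
  obtain ⟨g₀, hg₀⟩ := isConj_iff.mp (IsConj.symm hk)
  have htC : g₀ * t * g₀⁻¹ ∈ Cg := (b.frame.mem _).mpr (hg₀ ▸ (commute_conj_iff g₀ t k).mpr htk)
  set t' : ↥Cg := ⟨g₀ * t * g₀⁻¹, htC⟩ with ht'
  obtain ⟨W, hW⟩ : ∃ W : ↥Cg, π (W * t' * W⁻¹) ∈ Subgroup.closure B := by
    by_cases h1 : π t' = 1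
    · exact ⟨1, by simp [h1]⟩
    have hsq : π t' * π t' = 1 := by
      rw [← map_mul, show t' * t' = 1 from Subtype.ext (by
        rw [Subgroup.coe_mul, ht']
        show g₀ * t * g₀⁻¹ * (g₀ * t * g₀⁻¹) = 1
        rw [show g₀ * t * g₀⁻¹ * (g₀ * t * g₀⁻¹) = g₀ * (t * t) * g₀⁻¹ by group, ht2, mul_one, mul_inv_cancel]),
        map_one]
    obtain ⟨m, hm1, hm3, hm⟩ := (three_classes S).1 (π t') (orderOf_eq_prime (by rw [pow_two, hsq]) h1)
    obtain ⟨w, hw, hwm⟩ : (part E B m).Nonempty := Set.nonempty_of_ncard_ne_zero (by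
      interval_cases m
      · rw [part_one S hB, hB.card]; norm_num
      · rw [ncard_part_two S hB]; norm_num
      · rw [ncard_part_three S hB]; norm_num)
    obtain ⟨q, hq⟩ := isConj_iff.mp (isConj_prod S hm1 hm3 hm hwm)
    obtain ⟨W, rfl⟩ := hC.surj q
    exact ⟨W, by rw [map_mul, map_mul, map_inv, hq]; exact hw⟩
  set g := (W : G) * g₀ with hg
  have hgt : g * t * g⁻¹ ∈ A := by
    rw [show g * t * g⁻¹ = ((W * t' * W⁻¹ : ↥Cg) : G) by
      rw [Subgroup.coe_mul, Subgroup.coe_mul, Subgroup.coe_inv, ht', hg]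
      show _ = (W : G) * (g₀ * t * g₀⁻¹) * (W : G)⁻¹
      group]
    exact (b.frame.hA _).mpr hW
  obtain ⟨l, hnd, hlX, hlen, hprod⟩ := hshort _ hgt
  refine ⟨l.map (MulAut.conj g⁻¹), ⟨hnd.map (MulAut.conj g⁻¹).injective, ?_, ?_⟩, ?_, by simpa using hlen, ?_, ?_⟩
  · intro x hx
    obtain ⟨y, hy, rfl⟩ := List.mem_map.mp hx
    exact conjD g⁻¹ y (hlX y hy).2
  · intro x hx y hy
    obtain ⟨x', hx', rfl⟩ := List.mem_map.mp hx
    obtain ⟨y', hy', rfl⟩ := List.mem_map.mp hy
    exact (commute_conj_iff g⁻¹ x' y').mpr (b.ab x' (hlX x' hx').1 y' (hlX y' hy').1)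
  · rw [List.length_map]
    rcases Nat.eq_zero_or_pos l.length with h0 | h0
    · rw [List.length_eq_zero_iff.mp h0, List.prod_nil] at hprod
      exact absurd (conj_eq_one_iff.mp hprod.symm) ht1
    · exact h0
  · rw [← map_list_prod, hprod, MulAut.conj_apply]
    group
  · intro x hx
    obtain ⟨y, hy, rfl⟩ := List.mem_map.mp hx
    have hgk : MulAut.conj g⁻¹ (z : G) = k := by
      rw [MulAut.conj_apply, hg, ← hg₀]
      calc ((W : G) * g₀)⁻¹ * (g₀ * k * g₀⁻¹) * ((W : G) * g₀)⁻¹⁻¹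
          = g₀⁻¹ * ((W : G)⁻¹ * ((g₀ * k * g₀⁻¹) * (W : G))) * g₀ := by group
        _ = g₀⁻¹ * ((W : G)⁻¹ * ((W : G) * (g₀ * k * g₀⁻¹))) * g₀ := by rw [hg₀, (comm_z b W).eq]
        _ = k := by group
    rw [← hgk]
    exact (commute_conj_iff g⁻¹ y _).mpr (b.ab y (hlX y hy).1 _ ((b.frame.hA z).mpr (by rw [hC.one]; exact one_mem _)))

include S b in
/-- the conjugates are a connected class of 3-transpositions generating the group -/
theorem three_transpositions :
    Cfsg.IsThreeTranspositionClass D₀ ∧ (∀ x ∈ D₀, ∀ y ∈ D₀, Rel D₀ x y) ∧ Subgroup.center G = ⊥ ∧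
      Subgroup.closure (perp D₀ (z : G)) = Cg := by
  have h := host S b
  have hz : (z : G) ∈ D₀ := mem_conjugatesOf_self
  have hrel : ∀ x ∈ D₀, ∀ y ∈ D₀, Rel D₀ x y := fun x hx y hy => h.connected S hx hy
  have hset : Cfsg.IsThreeTranspositionSet D₀ := by
    refine ⟨h.order, fun x hx y hy => ?_⟩
    by_cases hxy : Commute x y
    · exact Or.inl (by rw [pow_two, hxy.symm.mul_mul_mul_comm, h.sq hx, h.sq hy, one_mul])
    · exact Or.inr (h.order_three (hrel x hx y hy) hx hxy)
  have hperp : Subgroup.closure (perp D₀ (z : G)) = Cg := by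
    refine le_antisymm ((Subgroup.closure_le _).mpr fun y hy => (b.frame.mem y).mpr hy.2.2.symm) ?_
    set W : Subgroup ↥Cg := Subgroup.closure (L '' E)
    have hmap : W.map π = ⊤ := by
      rw [MonoidHom.map_closure, ← top_le_iff, ← S.hD.2.2]
      exact Subgroup.closure_mono fun e he => ⟨L e, ⟨e, he, rfl⟩, b.sect.proj e he⟩
    have hcomm : commutator ↥Cg ≤ W := by
      rw [commutator_def, Subgroup.commutator_le]
      intro x _ y _
      obtain ⟨x', hx', hxe⟩ : π x ∈ W.map π := hmap ▸ Subgroup.mem_top _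
      obtain ⟨y', hy', hye⟩ : π y ∈ W.map π := hmap ▸ Subgroup.mem_top _
      have hzc : ∀ w : ↥Cg, z * w = w * z := b.frame.cover.central
      have hcen : ∀ w w' : ↥Cg, ⁅z * w, w'⁆ = ⁅w, w'⁆ ∧ ⁅w, z * w'⁆ = ⁅w, w'⁆ := fun w w' => by
        constructor
        · calc ⁅z * w, w'⁆ = z * w * w' * w⁻¹ * z⁻¹ * w'⁻¹ := by rw [commutatorElement_def]; group
            _ = w * w' * w⁻¹ * z * z⁻¹ * w'⁻¹ := by rw [show z * w * w' * w⁻¹ = z * (w * w' * w⁻¹) by group, hzc]
            _ = _ := by rw [commutatorElement_def]; group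
        · calc ⁅w, z * w'⁆ = w * z * w' * w⁻¹ * w'⁻¹ * z⁻¹ := by rw [commutatorElement_def]; group
            _ = z * (w * w' * w⁻¹ * w'⁻¹) * z⁻¹ := by rw [← hzc w]; group
            _ = _ := by rw [hzc, mul_inv_cancel_right, commutatorElement_def]
      have hxy : ⁅x', y'⁆ ∈ W := by
        rw [commutatorElement_def]; exact mul_mem (mul_mem (mul_mem hx' hy') (inv_mem hx')) (inv_mem hy')
      rcases b.frame.cover.eq_or x' x hxe.symm with e1 | e1 <;> rcases b.frame.cover.eq_or y' y hye.symm with e2 | e2 <;>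
        rw [e1, e2] <;> first | exact hxy | (simp only [(hcen _ _).1, (hcen _ _).2]; exact hxy)
    rw [b.frame.perf, top_le_iff] at hcomm
    intro y hy
    have : (⟨y, hy⟩ : ↥Cg) ∈ W := hcomm ▸ Subgroup.mem_top _
    have h2 : y ∈ W.map Cg.subtype := ⟨_, this, rfl⟩
    rw [MonoidHom.map_closure] at h2
    refine Subgroup.closure_mono ?_ h2
    rintro _ ⟨_, ⟨e, he, rfl⟩, rfl⟩
    exact (chart_self S b).mem e he
  have hgen : Subgroup.closure D₀ = ⊤ := by
    set N := Subgroup.closure D₀ with hN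
    have hNn : ∀ g n : G, n ∈ N → g * n * g⁻¹ ∈ N := fun g n hn => by
      have h2 : g * n * g⁻¹ ∈ N.map (MulAut.conj g).toMonoidHom := ⟨n, hn, rfl⟩
      rw [hN, MonoidHom.map_closure] at h2
      refine Subgroup.closure_mono ?_ h2
      rintro _ ⟨x, hx, rfl⟩
      exact conjD g x hx
    have hCN : Cg ≤ N := hperp ▸ Subgroup.closure_mono fun y hy => hy.1
    have hconjN : ∀ x ∈ D₀, ∃ n ∈ N, n * (z : G) * n⁻¹ = x := by
      -- noncommuting pairs are conjugate by their product
      have hnc : ∀ x ∈ D₀, ∀ y ∈ D₀, ¬ Commute x y → ∃ n ∈ N, n * x * n⁻¹ = y := fun x hx y hy hxy => by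
        refine ⟨x * y, mul_mem (Subgroup.subset_closure hx) (Subgroup.subset_closure hy), ?_⟩
        rw [mul_inv_rev, inv_eq hset hx, inv_eq hset hy]
        calc x * y * x * (y * x) = x * y * x * y * x := by group
          _ = y := by
            have h3 := h.order_three (hrel x hx y hy) hx hxy
            rw [pow_succ, pow_two] at h3
            have h4 : x * y * x * y * x = y⁻¹ := eq_inv_of_mul_eq_one_left (by rw [← h3]; group)
            rw [h4, inv_eq hset hy]
      intro x hx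
      by_cases hzx : Commute (z : G) x
      · by_cases hne : x = (z : G)
        · exact ⟨1, one_mem _, by rw [hne]; group⟩
        -- two neighbours of one member are conjugate inside the group
        have hnb : ∀ p ∈ D₀, ∀ u ∈ perp D₀ p, ∀ v ∈ perp D₀ p, ∃ n ∈ N, n * u * n⁻¹ = v := by
          intro p hp u hu v hv
          obtain ⟨g, rfl⟩ := isConj_iff.mp hp
          have hpull : ∀ w ∈ perp D₀ (g * (z : G) * g⁻¹), ∃ e ∈ E, g * (L e : G) * g⁻¹ = w := by
            intro w hw
            obtain ⟨e, he, hle⟩ := (chart_self S b).surj (g⁻¹ * w * g)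
              ⟨by simpa using conjD g⁻¹ w hw.1, fun e' => hw.2.1 (by rw [← e']; group), by
                have := (commute_conj_iff g⁻¹ _ _).mpr hw.2.2
                simp only [MulAut.conj_apply, inv_inv] at this
                rwa [show g⁻¹ * (g * (z : G) * g⁻¹) * g = (z : G) by group] at this⟩
            exact ⟨e, he, by rw [hle]; group⟩
          obtain ⟨e, he, rfl⟩ := hpull u hu
          obtain ⟨f, hf, rfl⟩ := hpull v hv
          obtain ⟨q, hq⟩ := S.hprim.1 e he f hf
          obtain ⟨W, rfl⟩ := b.frame.cover.surj q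
          refine ⟨g * (W : G) * g⁻¹, hNn g _ (hCN W.2), ?_⟩
          rw [← hq, ← b.sect.conj e he W, Subgroup.coe_mul, Subgroup.coe_mul, Subgroup.coe_inv]
          group
        obtain ⟨e, he, hex⟩ := (chart_self S b).surj x ⟨hx, hne, hzx⟩
        obtain ⟨γ, hγ⟩ : (perp E e).Nonempty := Set.nonempty_of_ncard_ne_zero (by
          rw [(S.ctx e he).ncard_perp]; norm_num)
        have hq1 := (chart_self S b).mem γ hγ.1
        have hxp : x ∈ perp D₀ (z : G) := hex ▸ (chart_self S b).mem e he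
        have hxq : (L γ : G) ∈ perp D₀ x := hex ▸ ⟨hq1.1, fun hh => hγ.2.1 ((chart_self S b).inj γ hγ.1 e he hh),
          ((chart_self S b).comm e he γ hγ.1).mpr hγ.2.2⟩
        obtain ⟨n₁, hn₁, e₁⟩ := hnb x hx (z : G) ⟨hz, Ne.symm hne, hzx.symm⟩ (L γ : G) hxq
        obtain ⟨n₂, hn₂, e₂⟩ := hnb (z : G) hz (L γ : G) hq1 x hxp
        exact ⟨n₂ * n₁, mul_mem hn₂ hn₁, by rw [← e₂, ← e₁]; group⟩
      · exact hnc (z : G) hz x hx hzx
    rw [eq_top_iff]
    intro g _
    obtain ⟨n, hn, hne⟩ := hconjN (g * (z : G) * g⁻¹) (isConj_iff.mpr ⟨g, rfl⟩)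
    have hgn : n⁻¹ * g ∈ Cg := (b.frame.mem _).mpr (by
      show n⁻¹ * g * (z : G) = (z : G) * (n⁻¹ * g)
      calc n⁻¹ * g * (z : G) = n⁻¹ * (g * (z : G) * g⁻¹) * g := by group
        _ = n⁻¹ * (n * (z : G) * n⁻¹) * g := by rw [hne]
        _ = (z : G) * (n⁻¹ * g) := by group)
    have := mul_mem hn (hCN hgn)
    rwa [mul_inv_cancel_left] at this
  refine ⟨⟨hset, ⟨(z : G), hz, rfl⟩, hgen⟩, hrel, ?_, hperp⟩
  obtain ⟨e₀, he₀, -⟩ := S.refl
  rw [Subgroup.eq_bot_iff_forall]
  intro c hc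
  have hall : ∀ g : G, Commute g c := fun g => (Subgroup.mem_center_iff.mp hc g)
  have hcC : c ∈ Cg := (b.frame.mem c).mpr (hall _).symm
  have hπc : π ⟨c, hcC⟩ = 1 := by
    have : π ⟨c, hcC⟩ ∈ Subgroup.center Q := Subgroup.mem_center_iff.mpr fun q => by
      obtain ⟨y, rfl⟩ := b.frame.cover.surj q
      rw [← map_mul, ← map_mul]
      exact congrArg π (Subtype.ext (hall (y : G)).eq)
    rw [S.hZ] at this
    exact Subgroup.mem_bot.mp this
  rcases b.frame.cover.ker _ hπc with h1 | h1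
  · exact congrArg Subtype.val h1
  · exfalso
    have h2 : c = (z : G) := congrArg Subtype.val h1
    obtain ⟨g, hg⟩ := isConj_iff.mp ((chart_self S b).mem e₀ he₀).1
    refine ((chart_self S b).mem e₀ he₀).2.1 (hg.symm.trans ?_)
    rw [(show Commute g (z : G) from h2 ▸ hall g).eq, mul_inv_cancel_right]

end Cfsg.Agent.Lib.FischerM23C90
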