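import Cfsg.Agent.Lib.FischerM23C90.Hosting
import Cfsg.Agent.Lib.FischerM23C90.Trace.Pinned
import Cfsg.Agent.Lib.FischerExist27.Transport
import Cfsg.Agent.Lib.FischerUniq91.Trace

/-!
The centraliser hypotheses of type M(23): the group is of type M(23).
-/

set_option autoImplicit false
set_option maxRecDepth 20000
set_option linter.style.haveILetI false
set_option linter.unusedSectionVars false

namespace Cfsg.Agent.Lib.FischerM23C90

open Cfsg.Agent.Lib.FischerMTypes.Basic Cfsg.Agent.Lib.FischerMTypes.Primitive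
  Cfsg.Agent.Lib.FischerMTypes.PointModel Cfsg.Agent.Lib.FischerMTypes.TraceCounts
  Cfsg.Agent.Lib.FischerMTypes.TraceSize Cfsg.Agent.Lib.FischerMTypes90
open Cfsg.Agent.Lib.FischerExist27 (sumSq sumSq_apply reflection_model proj_reflection_of_range)

variable {G : Type*} [Group G] [Finite G] {Q : Type*} [Group Q] [Finite Q]
variable {E : Set Q} {F : Type} [Field F] [Fintype F]
variable {Cg : Subgroup G} {π : ↥Cg →* Q} {z : ↥Cg}
variable {L : Q → ↥Cg} {B : Set Q} {T : Sylow 2 ↥Cg} {A : Subgroup G}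
variable (S : Sys E F) (b : Base Cg E π z L B T A)

local notation "D₀" => conjugatesOf (z : G)

/-- type M(22) of a quotient by the centre along an equality of subgroups -/
theorem typeM22_congr {A' B' : Subgroup G} (e : A' = B') (X : Set G)
    (h : Cfsg.IsOfTypeM22 (↥B' ⧸ Subgroup.center ↥B')
      ((QuotientGroup.mk : ↥B' → _) '' {x : ↥B' | (x : G) ∈ X})) :
    Cfsg.IsOfTypeM22 (↥A' ⧸ Subgroup.center ↥A')
      ((QuotientGroup.mk : ↥A' → _) '' {x : ↥A' | (x : G) ∈ X}) := by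
  subst e; exact h

include S b in
theorem sect_conj {u v : Q} (hu : u ∈ E) (hv : v ∈ E) :
    (L u : G) * (L v : G) * (L u : G) = (L (u * v * u) : G) := by
  have hi : (L u)⁻¹ = L u := inv_eq_of_mul_eq_one_right (b.sect.sq u hu)
  have := b.sect.conj v hv (L u)
  rw [hi, b.sect.proj u hu, inv_eq S.hD.1 hu] at this
  exact congrArg Subtype.val this

include S b in
/-- the perp group of the base member is of type M(22) modulo its centre -/
theorem perp_typeM22 (h22 : Cfsg.IsOfTypeM22 Q E) :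
    Cfsg.IsOfTypeM22 (↥(Subgroup.closure (perp D₀ (z : G))) ⧸ Subgroup.center ↥(Subgroup.closure (perp D₀ (z : G))))
      ((QuotientGroup.mk : ↥(Subgroup.closure (perp D₀ (z : G))) → _) ''
        {x : ↥(Subgroup.closure (perp D₀ (z : G))) | (x : G) ∈ perp D₀ (z : G)}) := by
  have hC := b.frame.cover
  refine typeM22_congr (three_transpositions S b).2.2.2 _ ?_
  have hker : π.ker = Subgroup.center ↥Cg := by
    refine le_antisymm (fun x hx => Subgroup.mem_center_iff.2 fun y => ?_) fun x hx => ?_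
    · rcases hC.ker x (MonoidHom.mem_ker.1 hx) with rfl | rfl
      · rw [mul_one, one_mul]
      · exact (hC.central y).symm
    · have h : π x ∈ Subgroup.center Q := Subgroup.mem_center_iff.2 fun q => by
        obtain ⟨y, rfl⟩ := hC.surj q
        rw [← map_mul, ← map_mul, Subgroup.mem_center_iff.1 hx y]
      rw [S.hZ, Subgroup.mem_bot] at h
      exact MonoidHom.mem_ker.2 h
  let e : Q ≃* ↥Cg ⧸ Subgroup.center ↥Cg :=
    ((QuotientGroup.quotientMulEquivOfEq hker.symm).trans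
      (QuotientGroup.quotientKerEquivOfSurjective π hC.surj)).symm
  have he : ∀ x : ↥Cg, e (π x) = QuotientGroup.mk x := fun x => by
    rw [MulEquiv.symm_apply_eq]
    rfl
  have c := chart_self S b
  refine FischerExist27.typeM22_of_equiv e ?_ h22
  ext q
  constructor
  · rintro ⟨x, hx, rfl⟩
    obtain ⟨u, hu, hux⟩ := c.surj (x : G) hx
    exact ⟨u, hu, by rw [← b.sect.proj u hu, he, Subtype.ext hux]⟩
  · rintro ⟨u, hu, rfl⟩
    exact ⟨L u, c.mem u hu, by rw [← he, b.sect.proj u hu]⟩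

variable {ν : ℕ → Q}

include S b in
/-- the points over the common neighbours of the base member and `y` form an admissible set -/
theorem trace_valid (M : Trace.Model E ν) {y : G} (hy : y ∈ D₀) (hzy : ¬ Commute (z : G) y) :
    Trace.Valid {i | i < 3510 ∧ Commute (L (ν i) : G) y} ∧
      ∃ p ∈ {i | i < 3510 ∧ Commute (L (ν i) : G) y},
        ∃ w, Trace.PathAt {i | i < 3510 ∧ Commute (L (ν i) : G) y} p w := by
  classical
  have c := chart_self S b
  set T' : Set ℕ := {i | i < 3510 ∧ Commute (L (ν i) : G) y} with hT'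
  have hzD : (z : G) ∈ D₀ := mem_conjugatesOf_self
  have hcomm : ∀ i < 3510, ∀ j < 3510, Commute (L (ν i) : G) (L (ν j) : G) ↔ Trace.act i j = j :=
    fun i hi j hj => (c.comm _ (M.mem i hi) _ (M.mem j hj)).trans (M.comm_iff hi hj)
  have hinj : ∀ i < 3510, ∀ j < 3510, (L (ν i) : G) = (L (ν j) : G) → i = j :=
    fun i hi j hj h => M.inj i hi j hj (c.inj _ (M.mem i hi) _ (M.mem j hj) h)
  have hclosed : ∀ i ∈ T', ∀ j ∈ T', Trace.act i j ∈ T' := by
    rintro i ⟨hi, hiy⟩ j ⟨hj, hjy⟩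
    refine ⟨M.act_lt i hi j hj, ?_⟩
    rw [← M.conj i hi j hj, ← sect_conj S b (M.mem i hi) (M.mem j hj)]
    exact (hiy.mul_left hjy).mul_left hiy
  have key : ∀ p ∈ T', ∃ (l : Q → G) (ζ β : Q), ζ ∈ E ∧ β ∈ E ∧ ¬ Commute ζ β ∧
      Chart D₀ E (L (ν p) : G) l ∧
      (∀ i ∈ Trace.nbr T' p, ∃ u ∈ perp₂ E ζ β, l u = (L (ν i) : G)) ∧
      ∀ u ∈ perp₂ E ζ β, ∃ i ∈ Trace.nbr T' p, l u = (L (ν i) : G) := by
    rintro p ⟨hp, hpy⟩
    have hP := c.mem _ (M.mem p hp)
    obtain ⟨l, cl⟩ := chart_all S b _ hP.1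
    obtain ⟨ζ, hζ, hlζ⟩ := cl.surj (z : G) ⟨hzD, Ne.symm hP.2.1, hP.2.2.symm⟩
    obtain ⟨β, hβ, hlβ⟩ := cl.surj y ⟨hy, fun e => hzy (e ▸ hP.2.2), hpy⟩
    refine ⟨l, ζ, β, hζ, hβ, fun h => hzy (hlζ ▸ hlβ ▸ (cl.comm _ hζ _ hβ).2 h), cl, ?_, ?_⟩
    · rintro i ⟨⟨hi, hiy⟩, hne, hfix⟩
      have hI := c.mem _ (M.mem i hi)
      obtain ⟨u, hu, hlu⟩ := cl.surj (L (ν i) : G)
        ⟨hI.1, fun e => hne (hinj i hi p hp e), (hcomm p hp i hi).2 hfix⟩
      refine ⟨u, ⟨⟨hu, fun e => hI.2.1 ?_, ?_⟩, hu, fun e => hzy ?_, ?_⟩, hlu⟩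
      · rw [← hlu, e, hlζ]
      · refine (cl.comm _ hζ _ hu).1 ?_
        rw [hlζ, hlu]; exact hI.2.2
      · rw [← hlβ, ← e, hlu]; exact hI.2.2
      · refine (cl.comm _ hβ _ hu).1 ?_
        rw [hlβ, hlu]; exact hiy.symm
    · rintro u ⟨⟨hu, hne, hζu⟩, -, -, hβu⟩
      have hU := cl.mem u hu
      have h1 : Commute (z : G) (l u) := by rw [← hlζ]; exact (cl.comm _ hζ _ hu).2 hζu
      have h2 : Commute y (l u) := by rw [← hlβ]; exact (cl.comm _ hβ _ hu).2 hβu
      obtain ⟨v, hv, hvl⟩ := c.surj (l u)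
        ⟨hU.1, fun e => hne (cl.inj _ hu _ hζ (by rw [e, hlζ])), h1⟩
      obtain ⟨i, hi, rfl⟩ := M.surj v hv
      have hvl' : (L (ν i) : G) = l u := hvl
      refine ⟨i, ⟨⟨hi, hvl' ▸ h2.symm⟩, fun e => hU.2.1 (by rw [← hvl', e]), (hcomm p hp i hi).1 ?_⟩,
        hvl'.symm⟩
      rw [hvl']
      exact hU.2.2
  have hvalid : Trace.Valid T' := by
    refine ⟨fun i hi => hi.1, hclosed, fun p hp => ?_⟩
    obtain ⟨l, ζ, β, hζ, hβ, hnc, cl, hfwd, hback⟩ := key p hp
    have e : l '' perp₂ E ζ β = (fun i => (L (ν i) : G)) '' Trace.nbr T' p := by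
      ext x
      constructor
      · rintro ⟨u, hu, rfl⟩
        obtain ⟨i, hi, h⟩ := hback u hu
        exact ⟨i, hi, h.symm⟩
      · rintro ⟨i, hi, rfl⟩
        exact hfwd i hi
    have e' := congrArg Set.ncard e
    rw [Set.InjOn.ncard_image (fun u hu v hv => cl.inj u hu.1.1 v hv.1.1),
      Set.InjOn.ncard_image (fun u hu v hv => hinj u hu.1.1 v hv.1.1), ncard_trace S hζ hβ hnc] at e'
    exact e'.symm
  obtain ⟨x, hx⟩ := ((three_transpositions S b).2.1 _ hzD y hy).2.resolve_left hzy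
  obtain ⟨v, hv, hvx⟩ := c.surj x hx.1
  obtain ⟨p, hp, rfl⟩ := M.surj v hv
  have hpT : p ∈ T' := ⟨hp, by
    have h : (L (ν p) : G) = x := hvx
    rw [h]; exact hx.2.2.2.symm⟩
  obtain ⟨l, ζ, β, hζ, hβ, hnc, cl, -, hback⟩ := key p hpT
  obtain ⟨w, hw, hpat⟩ := FischerUniq91.Trace.exists_path S hζ hβ hnc
  choose i hi hli using fun k => hback (w k) (hw k)
  refine ⟨hvalid, p, hpT, i, hi, fun j k => ?_⟩
  rw [← hcomm _ (hi j).1.1 _ (hi k).1.1, ← hli, ← hli, cl.comm _ (hw j).1.1 _ (hw k).1.1]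
  exact hpat j k

include S b in
/-- the group is of type M(23) -/
theorem typeM23 (h22 : Cfsg.IsOfTypeM22 Q E) : Cfsg.IsOfTypeM23 G D₀ := by
  classical
  obtain ⟨⟨-, -, hgen⟩, -, hZ, -⟩ := three_transpositions S b
  have hzD : (z : G) ∈ D₀ := mem_conjugatesOf_self
  obtain ⟨y, hy, hzy⟩ : ∃ y ∈ D₀, ¬ Commute (z : G) y := by
    by_contra hcon
    push Not at hcon
    have hle : (⊤ : Subgroup G) ≤ Subgroup.centralizer {(z : G)} := by
      rw [← hgen, Subgroup.closure_le]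
      exact fun y hy => Subgroup.mem_centralizer_singleton_iff.2 (hcon y hy).eq.symm
    have hz : (z : G) ∈ Subgroup.center G := Subgroup.mem_center_iff.2 fun g =>
      Subgroup.mem_centralizer_singleton_iff.1 (hle (Subgroup.mem_top g))
    rw [hZ, Subgroup.mem_bot] at hz
    exact b.frame.cover.ne (Subtype.ext hz)
  refine ⟨hZ, (z : G), hzD, y, hy, hzy, perp_typeM22 S b h22, 1, one_ne_zero, ?_⟩
  obtain ⟨ν, M⟩ := Trace.exists_model S.hD S.hprim h22
  obtain ⟨hvalid, p, hp, w, hw⟩ := trace_valid S b M hy hzy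
  obtain ⟨a, hainj, har, e, pm, rank, hreach, hrefl, hconj⟩ := Trace.Pinned.labelled M hvalid hp hw
  have ha : ∀ i, a i < 3510 ∧ Commute (L (ν (a i)) : G) y := fun i => by
    have h : a i ∈ Set.range a := ⟨i, rfl⟩
    rw [har] at h
    exact h
  have c := chart_self S b
  let a' : Fin 351 → G := fun i => (L (ν (a i)) : G)
  have ha' : Function.Injective a' := fun i j h =>
    hainj (M.inj _ (ha i).1 _ (ha j).1 (c.inj _ (M.mem _ (ha i).1) _ (M.mem _ (ha j).1) h))
  have hcj : ∀ k i, a' (e k) * a' i * (a' (e k))⁻¹ = a' (pm k i) := fun k i => by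
    have hu := M.mem _ (ha (e k)).1
    have hinv : (a' (e k))⁻¹ = a' (e k) :=
      inv_eq_of_mul_eq_one_right (congrArg Subtype.val (b.sect.sq _ hu))
    rw [hinv]
    show (L (ν (a (e k))) : G) * (L (ν (a i)) : G) * (L (ν (a (e k))) : G) = (L (ν (a (pm k i))) : G)
    rw [sect_conj S b hu (M.mem _ (ha i).1), M.conj _ (ha (e k)).1 _ (ha i).1, hconj k i]
  have hmodel := reflection_model a' ha' e pm hcj rank hreach Trace.vec
    (fun i => by rw [sumSq_apply]; exact Trace.vec_norm i)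
    (fun v hv => by
      rw [sumSq_apply] at hv
      obtain ⟨hlt, hv'⟩ := Trace.code_lt v
      have h := Trace.vec_cover ⟨_, hlt⟩
      simp only [hv'] at h
      obtain ⟨hp, hh⟩ := h hv
      exact ⟨⟨_, hp⟩, hh⟩)
    (fun i j hij => by
      refine Fin.ext ?_
      rcases hij with hij | hij
      · rw [← (Trace.vec_pos i).1, hij, (Trace.vec_pos j).1]
      · rw [← (Trace.vec_pos i).1, hij, (Trace.vec_pos j).2])
    hrefl
  refine proj_reflection_of_range a' _ ?_ (-1) (by decide) hmodel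
  ext x
  constructor
  · rintro ⟨hx1, hx2⟩
    obtain ⟨v, hv, hvx⟩ := c.surj x hx1
    obtain ⟨i, hi, rfl⟩ := M.surj v hv
    have hvx' : (L (ν i) : G) = x := hvx
    obtain ⟨k, hk⟩ : i ∈ Set.range a := har.symm ▸ (show i < 3510 ∧ Commute (L (ν i) : G) y from
      ⟨hi, hvx' ▸ hx2.2.2.symm⟩)
    exact ⟨k, by show (L (ν (a k)) : G) = x; rw [hk, hvx']⟩
  · rintro ⟨k, rfl⟩
    have hu := c.mem _ (M.mem _ (ha k).1)
    exact ⟨hu, hu.1, fun e => hzy (e ▸ hu.2.2), (ha k).2.symm⟩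

end Cfsg.Agent.Lib.FischerM23C90
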